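import Groth.Prelude.Def_AnEps
import Groth.Agent.An.H863.PtsPullback
import Groth.Agent.An.H871.Surj

/-!
# The comparison functor ε preserves finite limits and covers, hence is continuous

* `isPullback_cl`: criterion for a square in the classical site to be cartesian;
* `preservesFiniteLimits_eps`, `representablyFlat_eps`;
* `coverPreserving_eps`, `epsCont`.
-/

set_option autoImplicit false
open CategoryTheory CategoryTheory.Limits AlgebraicGeometry Topology TopologicalSpace Opposite
open An

noncomputable section

namespace Groth.Agent.An.H882.EpsCont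

set_option linter.unusedSectionVars false

/-! ## Cartesian squares of `ℂ`-points -/

section Pts

variable {P X Y S : Scheme.{0}} [P.Over SC] [X.Over SC] [Y.Over SC] [S.Over SC]
  {p : P ⟶ X} {q : P ⟶ Y} {f : X ⟶ S} {g : Y ⟶ S}
  [p.IsOver SC] [q.IsOver SC] [f.IsOver SC] [g.IsOver SC]

/-- The point of the fibre product given by a compatible pair of points. -/
def liftPt (H : IsPullback p q f g)
    (r : {r : Pts X × Pts Y // Pts.map f r.1 = Pts.map g r.2}) : Pts P :=
  ⟨H.lift r.1.1.1 r.1.2.1 (congrArg Subtype.val r.2), by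
    rw [← comp_over p SC, H.lift_fst_assoc]
    exact r.1.1.2⟩

lemma map_fst_liftPt (H : IsPullback p q f g)
    (r : {r : Pts X × Pts Y // Pts.map f r.1 = Pts.map g r.2}) :
    Pts.map p (liftPt H r) = r.1.1 :=
  Subtype.ext (H.lift_fst _ _ _)

lemma map_snd_liftPt (H : IsPullback p q f g)
    (r : {r : Pts X × Pts Y // Pts.map f r.1 = Pts.map g r.2}) :
    Pts.map q (liftPt H r) = r.1.2 :=
  Subtype.ext (H.lift_snd _ _ _)

lemma pts_ext (H : IsPullback p q f g) {x y : Pts P} (h1 : Pts.map p x = Pts.map p y)
    (h2 : Pts.map q x = Pts.map q y) : x = y :=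
  Subtype.ext (H.hom_ext (congrArg Subtype.val h1) (congrArg Subtype.val h2))

lemma continuous_liftPt (H : IsPullback p q f g) :
    Continuous (liftPt H (p := p) (q := q) (f := f) (g := g)) := by
  let e : P ≅ pullback f g := H.isoPullback
  have : e.inv.IsOver SC := ⟨by
    have h1 : pullback.fst f g ≫ (X ↘ SC) = (pullback f g ↘ SC) := rfl
    rw [← comp_over p SC, ← h1, ← Category.assoc]
    congr 1
    exact H.isoPullback_inv_fst⟩
  have h : liftPt H = Pts.map e.inv ∘ Groth.Agent.An.H863.PtsPullback.lift f g := by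
    funext r
    apply pts_ext H
    · rw [map_fst_liftPt, Function.comp_apply, ← Pts.map_comp]
      apply Subtype.ext
      change r.1.1.1 = pullback.lift _ _ _ ≫ (e.inv ≫ p)
      rw [H.isoPullback_inv_fst, pullback.lift_fst]
    · rw [map_snd_liftPt, Function.comp_apply, ← Pts.map_comp]
      apply Subtype.ext
      change r.1.2.1 = pullback.lift _ _ _ ≫ (e.inv ≫ q)
      rw [H.isoPullback_inv_snd, pullback.lift_snd]
  rw [h]
  exact (Pts.continuous_map _).comp (Groth.Agent.An.H863.PtsPullback.continuous_lift f g)

end Pts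

/-! ## ε preserves finite limits -/

variable (X : Scheme.{0}) [X.Over SC] [LocallyOfFiniteType (X ↘ SC)] [Fact EtaleLH]

theorem isPullback_eps_map {P U V W : X.Etale} {a : P ⟶ U} {b : P ⟶ V} {f : U ⟶ W} {g : V ⟶ W}
    (H : IsPullback a b f g) :
    IsPullback ((eps X).map a) ((eps X).map b) ((eps X).map f) ((eps X).map g) := by
  have H' : IsPullback a.left b.left f.left g.left :=
    H.map (Scheme.Etale.forget X ⋙ CategoryTheory.Over.forget X)
  refine ⟨⟨by rw [← Functor.map_comp, H.w, Functor.map_comp]⟩, ⟨?_⟩⟩
  refine PullbackCone.IsLimit.mk _ (fun s => ?_) (fun s => ?_) (fun s => ?_) (fun s m h1 h2 => ?_)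
  · have hs : ∀ z : s.pt.E, Pts.map (X := U.left) (Y := W.left) f.left (s.fst.toFun z) =
        Pts.map (X := V.left) (Y := W.left) g.left (s.snd.toFun z) := fun z =>
      congrFun (congrArg Cl.Hom.toFun s.condition) z
    refine ⟨fun z => liftPt (P := P.left) (X := U.left) (Y := V.left) (S := W.left) H'
      ⟨(s.fst.toFun z, s.snd.toFun z), hs z⟩, ?_, ?_⟩
    · exact (continuous_liftPt (P := P.left) (X := U.left) (Y := V.left) (S := W.left) H').comp
        (Continuous.subtype_mk (s.fst.continuous.prodMk s.snd.continuous) _)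
    · intro z
      have h1 := ((eps X).map a).over (liftPt (P := P.left) (X := U.left) (Y := V.left)
        (S := W.left) H' ⟨(s.fst.toFun z, s.snd.toFun z), hs z⟩)
      rw [← h1, ← s.fst.over z]
      congr 1
      exact map_fst_liftPt (P := P.left) (X := U.left) (Y := V.left) (S := W.left) H'
        ⟨(s.fst.toFun z, s.snd.toFun z), hs z⟩
  · apply Cl.hom_ext
    funext z
    exact map_fst_liftPt (P := P.left) (X := U.left) (Y := V.left) (S := W.left) H' _
  · apply Cl.hom_ext
    funext z
    exact map_snd_liftPt (P := P.left) (X := U.left) (Y := V.left) (S := W.left) H' _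
  · apply Cl.hom_ext
    funext z
    apply pts_ext (P := P.left) (X := U.left) (Y := V.left) (S := W.left) H'
    · rw [map_fst_liftPt (P := P.left) (X := U.left) (Y := V.left) (S := W.left) H' _]
      exact congrFun (congrArg Cl.Hom.toFun h1) z
    · rw [map_snd_liftPt (P := P.left) (X := U.left) (Y := V.left) (S := W.left) H' _]
      exact congrFun (congrArg Cl.Hom.toFun h2) z

instance preservesPullbacks_eps : PreservesLimitsOfShape WalkingCospan (eps X) :=
  preservesLimitsOfShape_walkingCospan_of_forall_isPullback fun _ _ _ f g _ =>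
    ⟨_, _, _, IsPullback.of_hasPullback f g, isPullback_eps_map X (IsPullback.of_hasPullback f g)⟩

/-- `X` over itself is terminal in the small étale site. -/
def topIsTerminal : IsTerminal (EtCoh.top X) :=
  CategoryTheory.MorphismProperty.Over.mkIdTerminal _ _

instance preservesTerminal_eps : PreservesLimit (Functor.empty.{0} X.Etale) (eps X) :=
  preservesLimit_of_preserves_limit_cone (topIsTerminal X)
    ((isLimitMapConeEmptyConeEquiv _ _).symm
      ((Cl.selfIsTerminal (Pts X)).ofIso (epsTopIso X).symm))

instance preservesFiniteLimits_eps : PreservesFiniteLimits (eps X) := by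
  have : PreservesLimitsOfShape (Discrete PEmpty.{1}) (eps X) :=
    preservesLimitsOfShape_pempty_of_preservesTerminal _
  exact preservesFiniteLimits_of_preservesTerminal_and_pullbacks _

instance representablyFlat_eps : RepresentablyFlat (eps X) :=
  flat_of_preservesFiniteLimits _

/-! ## ε preserves covers -/

theorem coverPreserving_eps :
    CoverPreserving X.smallEtaleTopology (Cl.topology (Pts X)) (eps X) := by
  constructor
  intro U S hS x
  have eX : X.smallEtaleTopology =
      (X.smallPretopology (P := EtCoh.etaleMP) (Q := EtCoh.etaleMP)).toGrothendieck :=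
    Scheme.smallGrothendieckTopology_eq_toGrothendieck_smallPretopology X le_rfl
  rw [eX] at hS
  obtain ⟨Y, f, y, hSf, -, hy⟩ :=
    (Scheme.mem_toGrothendieck_smallPretopology U S).1 hS (Pts.pt (X := U.left) x)
  have hlft : ∀ V : X.Etale, LocallyOfFiniteType (V.left ↘ SC) := fun V => by
    have : LocallyOfFiniteType ((V.left ↘ X) ≫ X ↘ SC) := inferInstance
    exact this
  have := hlft U
  have := hlft Y
  obtain ⟨z, hz⟩ := Groth.Agent.An.H871.Surj.exists_map_eq_of_mem_range (X := Y.left) (Y := U.left)
    f.left x ⟨y, hy⟩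
  have hlh : IsLocalHomeomorph ((eps X).map f).toFun := by
    have h1 : ((eps X).obj U).p ∘ ((eps X).map f).toFun = ((eps X).obj Y).p :=
      funext ((eps X).map f).over
    have h2 : IsLocalHomeomorph (((eps X).obj U).p ∘ ((eps X).map f).toFun) := by
      rw [h1]; exact ((eps X).obj Y).lh
    exact h2.of_comp ((eps X).obj U).lh ((eps X).map f).continuous
  obtain ⟨W, hW, hWe⟩ := isLocalHomeomorph_iff_isOpenEmbedding_restrict.1 hlh z
  obtain ⟨W', hW'W, hW'o, hzW'⟩ := mem_nhds_iff.1 hW
  refine ⟨Cl.restrictOpen ((eps X).obj Y) W' hW'o,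
    Cl.restrictOpenι ((eps X).obj Y) W' hW'o ≫ (eps X).map f, ⟨Y, f, _, hSf, rfl⟩, ?_,
    ⟨⟨z, hzW'⟩, hz⟩⟩
  have h1 : IsOpenEmbedding (Set.inclusion hW'W) :=
    ⟨IsEmbedding.inclusion hW'W, by
      rw [Set.range_inclusion]
      exact hW'o.preimage continuous_subtype_val⟩
  exact hWe.comp h1

theorem epsCont : EpsCont X :=
  Functor.isContinuous_of_coverPreserving (compatiblePreservingOfFlat _ _) (coverPreserving_eps X)

end Groth.Agent.An.H882.EpsCont
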