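import Groth.Agent.An.H882.SuppFin
import Groth.Agent.An.H884.ClBC
import Mathlib.CategoryTheory.Sites.EpiMono
import Mathlib.Topology.Maps.Proper.Basic

/-!
# Direct image along a closed map with finite fibres, on classical sites

`f : C(Q, S)` a closed separated map with finite fibres: `f_* : Cl.Ab Q ⥤ Cl.Ab S` preserves epimorphisms
(hence finite colimits) and reflects isomorphisms.
-/

set_option autoImplicit false
universe u
open CategoryTheory CategoryTheory.Limits TopologicalSpace Topology Opposite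

namespace Groth.Agent.An.H882.FinPush

open _root_.An Groth.Agent.An.H886.EtSpace Groth.Agent.An.H884.ClBC Groth.Agent.An.H882.SuppFin

variable {Q S : Type u} [TopologicalSpace Q] [TopologicalSpace S]

/-- Sections over an empty object. -/
theorem sect_eq_of_isEmpty (F : Cl.Ab Q) (A : Cl Q) (hA : A.E → False) (x y : Cl.sect F A) : x = y :=
  sect_ext F fun a => (hA a).elim

/-- Glueing sections over a disjoint open cover. -/
theorem exists_glue_disjoint (F : Cl.Ab Q) {A : Cl Q} {ι : Type*} (U : ι → Set A.E)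
    (hU : ∀ i, IsOpen (U i)) (hc : ∀ a : A.E, ∃ i, a ∈ U i)
    (hd : ∀ i j, i ≠ j → Disjoint (U i) (U j)) (x : ∀ i, Cl.sect F (A.restrictOpen (U i) (hU i))) :
    ∃ z : Cl.sect F A, ∀ i, res F (A.restrictOpenι (U i) (hU i)) z = x i := by
  classical
  let R : Sieve A :=
    { arrows := fun B g => ∃ i, ∀ b, g.toFun b ∈ U i
      downward_closed := by
        rintro B C g ⟨i, hi⟩ k
        exact ⟨i, fun c => hi _⟩ }
  have hR : R ∈ Cl.topology Q A := by
    refine mem_topology R fun a => ?_
    obtain ⟨i, hi⟩ := hc a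
    exact ⟨_, A.restrictOpenι (U i) (hU i), ⟨a, hi⟩, ⟨i, fun b : U i => b.2⟩, rfl⟩
  let y : Presieve.FamilyOfElements (F.obj ⋙ forget AddCommGrpCat.{u + 1}) R.arrows := fun B g hg =>
    (res F (liftOpen g (U hg.choose) (hU _) hg.choose_spec) (x hg.choose) : Cl.sect F B)
  have key : ∀ (B : Cl Q) (g : B ⟶ A) (i : ι) (hi : ∀ b, g.toFun b ∈ U i) (hg : R g),
      y g hg = (res F (liftOpen g (U i) (hU i) hi) (x i) : Cl.sect F B) := by
    intro B g i hi hg
    by_cases hB : Nonempty B.E
    · obtain ⟨b⟩ := hB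
      have e : hg.choose = i := by
        by_contra hne
        exact Set.disjoint_left.1 (hd _ _ hne) (hg.choose_spec b) (hi b)
      subst e
      rfl
    · exact sect_eq_of_isEmpty F B (fun b => hB ⟨b⟩) _ _
  have hy : y.SieveCompatible := by
    intro B C g k hg
    change y (k ≫ g) (R.downward_closed hg k) = res F k (y g hg)
    obtain ⟨i, hi⟩ := hg
    rw [key C (k ≫ g) i (fun c => hi _) _, key B g i hi ⟨i, hi⟩, ← res_comp,
      comp_liftOpen g (U i) (hU i) hi k (fun c => hi _)]
  obtain ⟨z, hz, -⟩ := (isSheaf_type F R hR) y (Presieve.compatible_iff_sieveCompatible y |>.2 hy)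
  refine ⟨z, fun i => ?_⟩
  have h0 : ∀ b, (A.restrictOpenι (U i) (hU i)).toFun b ∈ U i := fun b : U i => b.2
  have e := hz (A.restrictOpenι (U i) (hU i)) ⟨i, h0⟩
  have e1 := key _ (A.restrictOpenι (U i) (hU i)) i h0 ⟨i, h0⟩
  rw [liftOpen_ι, res_id] at e1
  exact e.trans e1

/-- A morphism of sheaves which is an epimorphism is locally surjective on sections. -/
theorem exists_lift_of_epi {F G : Cl.Ab Q} (φ : F ⟶ G) [Epi φ] {A : Cl Q} (y : Cl.sect G A) (a : A.E) :
    ∃ (W : Set A.E) (hW : IsOpen W), a ∈ W ∧ ∃ x : Cl.sect F (A.restrictOpen W hW),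
      (φ.hom.app (op (A.restrictOpen W hW))).hom x = res G (A.restrictOpenι W hW) y := by
  have h : Sheaf.IsLocallySurjective φ := (Sheaf.isLocallySurjective_iff_epi' _ φ).2 inferInstance
  obtain ⟨B, g, b, ⟨x, hx⟩, hb⟩ := exists_of_mem (h.imageSieve_mem y) a
  obtain ⟨W', hW', hbW', hemb⟩ := exists_restrict g b
  set W : Set A.E := Set.range (B.restrictOpenι W' hW' ≫ g).toFun with hWdef
  have hW : IsOpen W := hemb.isOpen_range
  let σ : A.restrictOpen W hW ⟶ B.restrictOpen W' hW' :=
    { toFun := fun z => hemb.isEmbedding.toHomeomorph.symm z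
      continuous := hemb.isEmbedding.toHomeomorph.symm.continuous
      over := fun z => by
        have h1 := congrArg Subtype.val (hemb.isEmbedding.toHomeomorph.apply_symm_apply z)
        rw [IsEmbedding.toHomeomorph_apply_coe] at h1
        have h2 := (B.restrictOpenι W' hW' ≫ g).over (hemb.isEmbedding.toHomeomorph.symm z)
        rw [h1] at h2
        exact h2.symm }
  have hσ : (σ ≫ B.restrictOpenι W' hW') ≫ g = A.restrictOpenι W hW := by
    apply Cl.hom_ext
    funext z
    have h1 := congrArg Subtype.val (hemb.isEmbedding.toHomeomorph.apply_symm_apply z)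
    rw [IsEmbedding.toHomeomorph_apply_coe] at h1
    exact h1
  refine ⟨W, hW, ⟨⟨b, hbW'⟩, hb⟩, res F (σ ≫ B.restrictOpenι W' hW') x, ?_⟩
  have hn := congrArg (fun k => k.hom x) (φ.hom.naturality (σ ≫ B.restrictOpenι W' hW').op)
  change (φ.hom.app _).hom (res F (σ ≫ B.restrictOpenι W' hW') x) =
    res G (σ ≫ B.restrictOpenι W' hW') ((φ.hom.app _).hom x) at hn
  rw [hn]
  change (φ.hom.app (op B)).hom x = res G g y at hx
  rw [hx, ← res_comp, hσ]

/-- Restriction commutes with morphisms. -/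
theorem app_res {F G : Cl.Ab Q} (φ : F ⟶ G) {A B : Cl Q} (g : B ⟶ A) (x : Cl.sect F A) :
    (φ.hom.app (op B)).hom (res F g x) = res G g ((φ.hom.app (op A)).hom x) :=
  congrArg (fun k => k.hom x) (φ.hom.naturality g.op)

/-- Separate the points of a finite set by pairwise disjoint neighbourhoods contained in given ones. -/
theorem exists_disjoint_nhds {X : Type*} [TopologicalSpace X] {N : Set X} (hN : N.Finite)
    (hsep : ∀ x ∈ N, ∀ y ∈ N, x ≠ y → ∃ U V : Set X, IsOpen U ∧ IsOpen V ∧ x ∈ U ∧ y ∈ V ∧ Disjoint U V)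
    (W : N → Set X) (hW : ∀ n, IsOpen (W n)) (hWn : ∀ n : N, (n : X) ∈ W n) :
    ∃ U : N → Set X, (∀ n, IsOpen (U n)) ∧ (∀ n : N, (n : X) ∈ U n) ∧ (∀ n, U n ⊆ W n) ∧
      ∀ n m, n ≠ m → Disjoint (U n) (U m) := by
  classical
  have : Finite N := hN
  choose! U V hU hV hxU hyV hd using hsep
  refine ⟨fun n => W n ∩ ⋂ m : N, (if h : n = m then Set.univ else U n m ∩ V m n), fun n => ?_,
    fun n => ?_, fun n => Set.inter_subset_left, fun n m hnm => ?_⟩
  · refine (hW n).inter (isOpen_iInter_of_finite fun m => ?_)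
    split_ifs with h
    · exact isOpen_univ
    · have h' : (n : X) ≠ m := fun e => h (Subtype.ext e)
      exact (hU n n.2 m m.2 h').inter (hV m m.2 n n.2 h'.symm)
  · refine ⟨hWn n, Set.mem_iInter.2 fun m => ?_⟩
    split_ifs with h
    · trivial
    · have h' : (n : X) ≠ m := fun e => h (Subtype.ext e)
      exact ⟨hxU n n.2 m m.2 h', hyV m m.2 n n.2 h'.symm⟩
  · have h' : (n : X) ≠ m := fun e => hnm (Subtype.ext e)
    refine (hd n n.2 m m.2 h').mono (fun x hx => ?_) (fun x hx => ?_)
    · have := Set.mem_iInter.1 hx.2 m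
      rw [dif_neg hnm] at this
      exact this.1
    · have := Set.mem_iInter.1 hx.2 n
      rw [dif_neg (Ne.symm hnm)] at this
      exact this.2

variable (f : C(Q, S))

/-- Direct image on classical sites. -/
noncomputable abbrev push : Cl.Ab Q ⥤ Cl.Ab S :=
  (clBC f).sheafPushforwardContinuous AddCommGrpCat.{u + 1} (Cl.topology S) (Cl.topology Q)

/-- The base change of a closed map with finite fibres is closed. -/
theorem isClosedMap_snd (hcl : IsClosedMap f) (hfin : ∀ s, (f ⁻¹' {s}).Finite) (A : Cl S) :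
    IsClosedMap (fun q : ((clBC f).obj A).E => q.1.2) := by
  have hp : IsProperMap f :=
    isProperMap_iff_isClosedMap_and_compact_fibers.2 ⟨f.continuous, hcl, fun s => (hfin s).isCompact⟩
  have hu := hp.universally_closed A.E
  intro Z hZ
  obtain ⟨Z', hZ', rfl⟩ := isClosed_induced_iff.1 hZ
  have e : (fun q : ((clBC f).obj A).E => q.1.2) '' (Subtype.val ⁻¹' Z') =
      (fun a : A.E => (A.p a, a)) ⁻¹' (Prod.map f id '' Z') := by
    ext a
    constructor
    · rintro ⟨⟨⟨q, a'⟩, h⟩, hz, rfl⟩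
      exact ⟨(q, a'), hz, Prod.ext h rfl⟩
    · rintro ⟨⟨q, a'⟩, hz, h⟩
      have h1 : f q = A.p a := congrArg Prod.fst h
      have h2 : a' = a := congrArg Prod.snd h
      subst h2
      exact ⟨⟨(q, a'), h1⟩, hz, rfl⟩
  rw [e]
  exact (hu Z' hZ').preimage (A.lh.continuous.prodMk continuous_id)

theorem epi_push_map (hcl : IsClosedMap f) (hsep : IsSeparatedMap f) (hfin : ∀ s, (f ⁻¹' {s}).Finite)
    {F G : Cl.Ab Q} (φ : F ⟶ G) [Epi φ] : Epi ((push f).map φ) := by
  rw [← Sheaf.isLocallySurjective_iff_epi']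
  refine ⟨fun {A} y => mem_topology _ fun a => ?_⟩
  let E : Cl Q := (clBC f).obj A
  let y' : Cl.sect G E := y
  -- the fibre
  let N : Set E.E := {e | e.1.2 = a}
  have hN : N.Finite := by
    refine Set.Finite.of_finite_image (f := fun e : E.E => e.1.1) ((hfin (A.p a)).subset ?_) ?_
    · rintro _ ⟨e, he, rfl⟩
      have h1 : f e.1.1 = A.p e.1.2 := e.2
      change f e.1.1 = A.p a
      rw [h1, show e.1.2 = a from he]
    · intro e he e' he' h
      exact Subtype.ext (Prod.ext h ((show e.1.2 = a from he).trans (show e'.1.2 = a from he').symm))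
  have hNsep : ∀ x ∈ N, ∀ z ∈ N, x ≠ z →
      ∃ U V : Set E.E, IsOpen U ∧ IsOpen V ∧ x ∈ U ∧ z ∈ V ∧ Disjoint U V := by
    intro x hx z hz hxz
    have h1 : x.1.1 ≠ z.1.1 := fun h => hxz (Subtype.ext (Prod.ext h
      ((show x.1.2 = a from hx).trans (show z.1.2 = a from hz).symm)))
    have h2 : f x.1.1 = f z.1.1 := by
      have e1 : f x.1.1 = A.p x.1.2 := x.2
      have e2 : f z.1.1 = A.p z.1.2 := z.2
      rw [e1, e2, show x.1.2 = a from hx, show z.1.2 = a from hz]
    obtain ⟨U, V, hU, hV, hxU, hzV, hd⟩ := hsep _ _ h2 h1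
    exact ⟨E.p ⁻¹' U, E.p ⁻¹' V, hU.preimage E.lh.continuous, hV.preimage E.lh.continuous, hxU, hzV,
      hd.preimage _⟩
  choose W hW hWa x hx using fun n : N => exists_lift_of_epi φ y' (n : E.E)
  obtain ⟨U, hU, hUn, hUW, hd⟩ := exists_disjoint_nhds hN hNsep W hW hWa
  set Z : Set E.E := (⋃ n, U n)ᶜ with hZ
  have hZc : IsClosed Z := (isOpen_iUnion hU).isClosed_compl
  have hcl' := isClosedMap_snd f hcl hfin A Z hZc
  set V : Set A.E := ((fun q : ((clBC f).obj A).E => q.1.2) '' Z)ᶜ with hV
  have hVo : IsOpen V := hcl'.isOpen_compl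
  have haV : a ∈ V := by
    rintro ⟨e, he, hea⟩
    exact he (Set.mem_iUnion.2 ⟨⟨e, hea⟩, hUn ⟨e, hea⟩⟩)
  let ι := A.restrictOpenι V hVo
  let E' : Cl Q := (clBC f).obj (A.restrictOpen V hVo)
  let k : E' ⟶ E := (clBC f).map ι
  let U' : N → Set E'.E := fun n => k.toFun ⁻¹' U n
  have hU' : ∀ n, IsOpen (U' n) := fun n => (hU n).preimage k.continuous
  let r : ∀ n, E'.restrictOpen (U' n) (hU' n) ⟶ E.restrictOpen (W n) (hW n) := fun n =>
    liftOpen (E'.restrictOpenι (U' n) (hU' n) ≫ k) (W n) (hW n) (fun b : U' n => hUW n b.2)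
  obtain ⟨z, hz⟩ := exists_glue_disjoint F U' hU' (fun e => by
      by_contra h
      rw [not_exists] at h
      have h1 : k.toFun e ∈ Z := by
        rw [hZ, Set.mem_compl_iff, Set.mem_iUnion, not_exists]
        exact h
      exact e.1.2.2 ⟨k.toFun e, h1, rfl⟩) (fun n m hnm => (hd n m hnm).preimage _)
    (fun n => res F (r n) (x n))
  refine ⟨A.restrictOpen V hVo, ι, (⟨a, haV⟩ : V), ⟨z, ?_⟩, rfl⟩
  change (φ.hom.app (op E')).hom z = res G k y'
  refine sect_ext G fun e => ?_
  have he : ∃ n, e ∈ U' n := by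
    by_contra h
    rw [not_exists] at h
    have h1 : k.toFun e ∈ Z := by
      rw [hZ, Set.mem_compl_iff, Set.mem_iUnion, not_exists]
      exact h
    exact e.1.2.2 ⟨k.toFun e, h1, rfl⟩
  obtain ⟨n, hn⟩ := he
  refine ⟨_, E'.restrictOpenι (U' n) (hU' n), (⟨e, hn⟩ : U' n), rfl, ?_⟩
  rw [← app_res, hz n, app_res, hx n, ← res_comp, ← res_comp]
  rfl

/-- `f_*` preserves epimorphisms. -/
theorem preservesEpimorphisms_push (hcl : IsClosedMap f) (hsep : IsSeparatedMap f)
    (hfin : ∀ s, (f ⁻¹' {s}).Finite) : (push f).PreservesEpimorphisms where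
  preserves φ _ := epi_push_map f hcl hsep hfin φ

instance additive_push : (push f).Additive where

instance preservesFiniteLimits_push : PreservesFiniteLimits (push f) := by
  have adj := (clBC f).sheafAdjunctionContinuous AddCommGrpCat.{u + 1} (Cl.topology S) (Cl.topology Q)
  have : PreservesLimitsOfSize.{0, 0} (push f) := adj.rightAdjoint_preservesLimits
  exact PreservesLimitsOfSize.preservesFiniteLimits _

/-- `f_*` is exact. -/
theorem preservesFiniteColimits_push (hcl : IsClosedMap f) (hsep : IsSeparatedMap f)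
    (hfin : ∀ s, (f ⁻¹' {s}).Finite) : PreservesFiniteColimits (push f) := by
  rw [((Functor.preservesFiniteColimits_tfae (push f)).out 3 0 :)]
  intro T hT
  have h1 := (((Functor.preservesFiniteLimits_tfae (push f)).out 3 0 :).1 inferInstance) T hT
  have := hT.epi_g
  exact ⟨h1.1, epi_push_map f hcl hsep hfin T.g⟩

/-- A sheaf with vanishing direct image vanishes. -/
theorem isZero_of_isZero_push (hcl : IsClosedMap f) (hsep : IsSeparatedMap f)
    (hfin : ∀ s, (f ⁻¹' {s}).Finite) (F : Cl.Ab Q) (h : IsZero ((push f).obj F)) : IsZero F := by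
  have h0 : ∀ (A : Cl Q) (x : Cl.sect F A), x = 0 := by
    refine eq_zero F f.continuous hsep isClosed_univ
      ⟨fun Z hZ _ => hcl Z hZ, fun s => (hfin s).subset Set.inter_subset_left⟩
      (fun A hA x => ?_) (fun V hV x => ?_)
    · exact sect_eq_of_isEmpty F A (fun a => hA a trivial) _ _
    · -- transport to the base change of `V`
      let B : Cl S := (Cl.self S).restrictOpen V hV
      let σ : (opn (f ⁻¹' V) (hV.preimage f.continuous) : Cl Q) ⟶ (clBC f).obj B :=
        ⟨fun t => ⟨(t.1, (⟨f t.1, t.2⟩ : V)), rfl⟩,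
          Continuous.subtype_mk (continuous_subtype_val.prodMk
            ((f.continuous.comp continuous_subtype_val).subtype_mk _)) _, fun _ => rfl⟩
      have hτ : ∀ q : ((clBC f).obj B).E, q.1.1 ∈ f ⁻¹' V := fun q => by
        have h : f q.1.1 = q.1.2.1 := q.2
        change f q.1.1 ∈ V
        rw [h]
        exact q.1.2.2
      let τ : (clBC f).obj B ⟶ (opn (f ⁻¹' V) (hV.preimage f.continuous) : Cl Q) :=
        { toFun := fun q => ⟨q.1.1, hτ q⟩
          continuous := (continuous_fst.comp continuous_subtype_val).subtype_mk hτ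
          over := fun _ => rfl }
      have hσ : σ ≫ τ = 𝟙 _ := rfl
      have h1 : res F τ x = 0 := by
        have h2 : IsZero (((push f).obj F).obj.obj (op B)) :=
          ((sheafToPresheaf (Cl.topology S) AddCommGrpCat.{u + 1} ⋙ (evaluation _ _).obj (op B)).map_isZero h)
        have h3 : Subsingleton (((push f).obj F).obj.obj (op B)) :=
          AddCommGrpCat.subsingleton_of_isZero h2
        exact @Subsingleton.elim _ h3 _ _
      calc x = res F (𝟙 _) x := (res_id F x).symm
        _ = res F (σ ≫ τ) x := by rw [hσ]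
        _ = res F σ (res F τ x) := res_comp F _ _ _
        _ = 0 := by rw [h1, map_zero]
  rw [IsZero.iff_id_eq_zero]
  apply Sheaf.hom_ext
  ext A x
  exact h0 _ _

/-- `f_*` reflects isomorphisms. -/
theorem reflectsIsomorphisms_push (hcl : IsClosedMap f) (hsep : IsSeparatedMap f)
    (hfin : ∀ s, (f ⁻¹' {s}).Finite) : (push f).ReflectsIsomorphisms := by
  have := preservesFiniteColimits_push f hcl hsep hfin
  refine ⟨fun {F G} φ hφ => ?_⟩
  have h1 : IsZero (kernel φ) := isZero_of_isZero_push f hcl hsep hfin _ (by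
    refine IsZero.of_iso ?_ (PreservesKernel.iso (push f) φ)
    exact isZero_kernel_of_mono _)
  have h2 : IsZero (cokernel φ) := isZero_of_isZero_push f hcl hsep hfin _ (by
    refine IsZero.of_iso ?_ (PreservesCokernel.iso (push f) φ)
    exact isZero_cokernel_of_epi _)
  have : Mono φ := Preadditive.mono_of_isZero_kernel φ h1
  have : Epi φ := Preadditive.epi_of_isZero_cokernel φ h2
  exact isIso_of_mono_of_epi φ

end Groth.Agent.An.H882.FinPush
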