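import Groth.Agent.An.H882.TStep
import Groth.Agent.An.H862.Asm4219

/-!
# The field `tstep` of `CompCalc` for the comparison relation `CP`
-/

set_option autoImplicit false
set_option linter.unusedSectionVars false
open CategoryTheory CategoryTheory.Limits AlgebraicGeometry Opposite TopologicalSpace Topology

attribute [local instance] HasDerivedCategory.standard

noncomputable section
namespace Groth.Agent.An.H882.TField

open _root_.An
open Groth.Agent.Etrest.DEtPush Groth.Agent.Sga4h.AdmCx Groth.Agent.Sga4h.IndCalc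
  Groth.Agent.An.H891.CompSq Groth.Agent.An.H862.Asm4219

/-- The T-step, in the form of the field `tstep` of `CompCalc m` for `P = CP`. -/
theorem tstep_field {m : ℕ} {V W Q T V' S : Scheme.{0}} (s : S ⟶ An.SC) [FT s] (p : Q ⟶ S)
    [IsProper p] (w : W ⟶ Q) [IsOpenImmersion w] (t : T ⟶ Q) [IsClosedImmersion t]
    (hwt : Set.range w = (Set.range t)ᶜ) (hfin : IsFinite (t ≫ p))
    (j : V ⟶ Q) [FT j] (j' : V' ⟶ W) (w' : V' ⟶ V) (sq : IsPullback w' j' j w)
    (K : DCoh.DEt V) (hK : Adm m K) (_ : Adm m ((pushD j).obj K))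
    (h₁ : CP (w ≫ p ≫ s) j' ((pullD w').obj K)) (h₂ : CP s (j ≫ p) K)
    (h₃ : CP s p ((pushD j).obj K)) : CP (p ≫ s) j K := by
  intro _ _ _
  letI iS : S.Over An.SC := ⟨s⟩
  letI iQ : Q.Over An.SC := ⟨p ≫ s⟩
  letI iV : V.Over An.SC := ⟨j ≫ p ≫ s⟩
  letI iW : W.Over An.SC := ⟨w ≫ p ≫ s⟩
  letI iV' : V'.Over An.SC := ⟨j' ≫ w ≫ p ≫ s⟩
  letI iT : T.Over An.SC := ⟨t ≫ p ≫ s⟩
  haveI : p.IsOver An.SC := ⟨rfl⟩
  haveI : j.IsOver An.SC := ⟨rfl⟩
  haveI : w.IsOver An.SC := ⟨rfl⟩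
  haveI : t.IsOver An.SC := ⟨rfl⟩
  haveI : j'.IsOver An.SC := ⟨rfl⟩
  haveI : w'.IsOver An.SC := ⟨by
    change w' ≫ j ≫ p ≫ s = j' ≫ w ≫ p ≫ s
    rw [reassoc_of% sq.w]⟩
  haveI : (j ≫ p).IsOver An.SC := ⟨Category.assoc _ _ _⟩
  haveI : (t ≫ p).IsOver An.SC := ⟨Category.assoc _ _ _⟩
  have hj' : LocallyOfFiniteType j' :=
    MorphismProperty.of_isPullback (P := @LocallyOfFiniteType) sq inferInstance
  have hj'' : QuasiCompact j' :=
    MorphismProperty.of_isPullback (P := @QuasiCompact) sq inferInstance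
  haveI : LocallyOfFiniteType (S ↘ An.SC) := inferInstanceAs (LocallyOfFiniteType s)
  haveI : LocallyOfFiniteType (Q ↘ An.SC) := inferInstanceAs (LocallyOfFiniteType (p ≫ s))
  haveI : LocallyOfFiniteType (V ↘ An.SC) := inferInstanceAs (LocallyOfFiniteType (j ≫ p ≫ s))
  haveI : LocallyOfFiniteType (W ↘ An.SC) := inferInstanceAs (LocallyOfFiniteType (w ≫ p ≫ s))
  haveI : LocallyOfFiniteType (V' ↘ An.SC) :=
    inferInstanceAs (LocallyOfFiniteType (j' ≫ w ≫ p ≫ s))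
  obtain ⟨a, ha⟩ := hK.ge
  exact TStep.tstep p w t hwt hfin j j' w' sq K a (comp_of_cp j' _ h₁) (comp_of_cp (j ≫ p) K h₂)
    (comp_of_cp p _ h₃)

end Groth.Agent.An.H882.TField
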