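import Groth.Agent.An.H882.OpenCl
import Groth.Agent.An.H891.ClSq
import Groth.Agent.Sga4h.RPairDer

/-!
# Detecting isomorphisms in the derived category of a classical site

`isIso_of_fin`: a morphism `u` of bounded below complexes on `Q` is an isomorphism if its restriction to the
open `W` is one and `Rq_* u` is one, the complement of `W` being closed with finite fibres over `S`.
-/

set_option autoImplicit false
open CategoryTheory CategoryTheory.Limits Opposite TopologicalSpace Topology
open CategoryTheory.Pretriangulated CategoryTheory.Triangulated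

attribute [local instance] HasDerivedCategory.standard

noncomputable section
namespace Groth.Agent.An.H882.ConeZero

open _root_.An DerivedCategory
open Groth.Agent.Etrest.RDer3 Groth.Agent.Etrest.RDer4 Groth.Agent.Etrest.RDer5
  Groth.Agent.An.H884.ClBC Groth.Agent.An.H891.Geom Groth.Agent.An.H891.ClSq
  Groth.Agent.An.H882.SuppFin Groth.Agent.An.H882.FinPush Groth.Agent.An.H886.EtSpace

section bottom

universe w v u
variable {A : Type u} [Category.{v} A] [Abelian A] [HasDerivedCategory.{w} A]

/-- Maps into the lowest cohomology object of `C` vanish if the corresponding maps into `C` do. -/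
theorem eq_zero_of_single (C : DerivedCategory A) (n : ℤ) [C.IsGE n] (Y : A)
    (h : ∀ x : (singleFunctor A n).obj Y ⟶ C, x = 0) (g : Y ⟶ (homologyFunctor A n).obj C) : g = 0 := by
  have i1 := Groth.Agent.CohtopB.DTrunc.isIso_homology_map_truncLTι C (n + 1) n (by omega)
  set X := (TStructure.t.truncLT (n + 1)).obj C with hX
  set ι : X ⟶ C := (TStructure.t.truncLTι (n + 1)).app C with hι
  have hGE : X.IsGE n := by
    rw [isGE_iff]
    intro i hi
    have := Groth.Agent.CohtopB.DTrunc.isIso_homology_map_truncLTι C (n + 1) i (by omega)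
    exact (isZero_of_isGE C n i hi).of_iso (asIso ((homologyFunctor A i).map ι))
  have hLE : X.IsLE n := by
    have : TStructure.t.IsLE X (n + 1 - 1) := inferInstance
    have e : n + 1 - 1 = n := by omega
    rwa [e] at this
  obtain ⟨e⟩ := Groth.Agent.CohtopB.DTrunc.exists_iso_single X n
  let c := asIso ((homologyFunctor A n).map ι)
  let g' : Y ⟶ (homologyFunctor A n).obj X := g ≫ c.inv
  have h2 := h ((singleFunctor A n).map g' ≫ e.inv ≫ ι)
  have h3 : IsIso ((homologyFunctor A n).map (e.inv ≫ ι)) := by
    rw [Functor.map_comp]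
    exact IsIso.comp_isIso' inferInstance i1
  have h4 : (homologyFunctor A n).map ((singleFunctor A n).map g') = 0 := by
    rw [← cancel_mono ((homologyFunctor A n).map (e.inv ≫ ι)), ← Functor.map_comp, h2,
      Functor.map_zero, zero_comp]
  have h5 := NatIso.naturality_1 (singleFunctorCompHomologyFunctorIso A n) g'
  have h6 : g' = 0 := by
    rw [Functor.id_map] at h5
    rw [← h5, Functor.comp_map, h4, zero_comp, comp_zero]
  have h7 : g = g' ≫ c.hom := by
    simp [g']
  rw [h7, h6, zero_comp]

end bottom

variable {W Q S : Type} [TopologicalSpace W] [TopologicalSpace Q] [TopologicalSpace S]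

/-- Sections over preimages of opens vanish if the direct image vanishes. -/
theorem sect_eq_zero_of_isZero_push (q : C(Q, S)) (F : Cl.Ab Q) (h : IsZero ((push q).obj F))
    (V : Set S) (hV : IsOpen V) (x : Cl.sect F (opn (q ⁻¹' V) (hV.preimage q.continuous))) :
    x = 0 := by
  let B : Cl S := (Cl.self S).restrictOpen V hV
  let σ : (opn (q ⁻¹' V) (hV.preimage q.continuous) : Cl Q) ⟶ (clBC q).obj B :=
    ⟨fun t => ⟨(t.1, (⟨q t.1, t.2⟩ : V)), rfl⟩,
      Continuous.subtype_mk (continuous_subtype_val.prodMk
        ((q.continuous.comp continuous_subtype_val).subtype_mk _)) _, fun _ => rfl⟩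
  have hτ : ∀ z : ((clBC q).obj B).E, z.1.1 ∈ q ⁻¹' V := fun z => by
    have h : q z.1.1 = z.1.2.1 := z.2
    change q z.1.1 ∈ V
    rw [h]
    exact z.1.2.2
  let τ : (clBC q).obj B ⟶ (opn (q ⁻¹' V) (hV.preimage q.continuous) : Cl Q) :=
    { toFun := fun z => ⟨z.1.1, hτ z⟩
      continuous := (continuous_fst.comp continuous_subtype_val).subtype_mk hτ
      over := fun _ => rfl }
  have hσ : σ ≫ τ = 𝟙 _ := rfl
  have h1 : res F τ x = 0 := by
    have h2 : IsZero (((push q).obj F).obj.obj (op B)) :=
      ((sheafToPresheaf (Cl.topology S) AddCommGrpCat.{1} ⋙ (evaluation _ _).obj (op B)).map_isZero h)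
    have h3 : Subsingleton (((push q).obj F).obj.obj (op B)) :=
      AddCommGrpCat.subsingleton_of_isZero h2
    exact @Subsingleton.elim _ h3 _ _
  calc x = res F (𝟙 _) x := (res_id F x).symm
    _ = res F (σ ≫ τ) x := by rw [hσ]
    _ = res F σ (res F τ x) := res_comp F _ _ _
    _ = 0 := by rw [h1, map_zero]

variable (w : C(W, Q)) (hw : IsOpenEmbedding w) (q : C(Q, S)) (hq : IsSeparatedMap q)
  (hfin : FinOn q (Set.range w)ᶜ)

include hw hq hfin in
/-- The lowest cohomology sheaf. -/
theorem isZero_homology (C : DCl Q) (n : ℤ) [C.IsGE n] (h1 : IsZero ((clPullD w).obj C))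
    (h2 : IsZero ((clPushD q).obj C)) : IsZero ((homologyFunctor (Cl.Ab Q) n).obj C) := by
  set F := (homologyFunctor (Cl.Ab Q) n).obj C with hF
  have ha : IsZero ((clPull w).obj F) :=
    ((homologyFunctor _ n).map_isZero h1).of_iso
      (Groth.Agent.Dcoh.MapDer.homologyMapDerApp (clPull w) n C).symm
  have hb : IsZero ((clPush q).obj F) := by
    rw [IsZero.iff_id_eq_zero]
    have key : ∀ (X : Cl.Ab S) (g : X ⟶ (clPush q).obj F), g = 0 := by
      intro X g
      apply ((clAdj q).homEquiv X F).symm.injective
      have hz : ((clAdj q).homEquiv X F).symm 0 = 0 := by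
        simp [Adjunction.homEquiv_counit]
      rw [hz]
      refine eq_zero_of_single C n _ (fun x => ?_) _
      let e := ((clPull q).mapDerivedCategorySingleFunctor n).app X
      have h3 : e.hom ≫ x = 0 := by
        apply ((clDAdj q).homEquiv _ C).injective
        exact h2.eq_of_tgt _ _
      rw [← cancel_epi e.hom, h3, comp_zero]
    exact key _ _
  have hs : ∀ (A : Cl Q) (x : Cl.sect F A), x = 0 :=
    eq_zero F q.continuous hq hw.isOpen_range.isClosed_compl hfin
      (fun A hA x => OpenCl.eq_zero_of_isZero_pull w hw F ha A (fun a => not_not.1 (hA a)) x)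
      (fun V hV x => sect_eq_zero_of_isZero_push q F hb V hV x)
  rw [IsZero.iff_id_eq_zero]
  apply Sheaf.hom_ext
  ext A x
  exact hs _ _

include hw hq hfin in
theorem isZero_of_fin (C : DCl Q) (a : ℤ) [C.IsGE a] (h1 : IsZero ((clPullD w).obj C))
    (h2 : IsZero ((clPushD q).obj C)) : IsZero C := by
  have key : ∀ n : ℕ, C.IsGE (a + n) := by
    intro n
    induction n with
    | zero => simpa using (inferInstance : C.IsGE a)
    | succ n ih =>
      rw [isGE_iff]
      intro i hi
      by_cases hi' : i < a + n
      · exact isZero_of_isGE C (a + n) i hi'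
      · obtain rfl : i = a + n := by push_cast at hi; omega
        exact isZero_homology w hw q hq hfin C (a + n) h1 h2
  refine Groth.Agent.Sga4h.RPair.nondeg (Cl.Ab Q) C fun n => ?_
  have := key (n - a).toNat
  exact TStructure.t.isGE_of_ge C n (a + (n - a).toNat) (by omega)

include hw hq hfin in
/-- Detecting isomorphisms of bounded below complexes on `W` and after `Rq_*`. -/
theorem isIso_of_fin {M N : DCl Q} (u : M ⟶ N) (a : ℤ) [M.IsGE a] [N.IsGE a]
    (h1 : IsIso ((clPullD w).map u)) (h2 : IsIso ((clPushD q).map u)) : IsIso u := by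
  obtain ⟨C, g, h, hT⟩ := distinguished_cocone_triangle u
  have hC : C.IsGE (a - 1) := by
    have h3 : TStructure.t.IsGE N (a - 1) := TStructure.t.isGE_of_ge N (a - 1) a
    have h4 : TStructure.t.IsGE (M⟦(1 : ℤ)⟧) (a - 1) := TStructure.t.isGE_shift M a 1 (a - 1)
    exact TStructure.t.isGE₂ _ (rot_of_distTriang _ hT) (a - 1) h3 h4
  have hz1 : IsZero ((clPullD w).obj C) :=
    Triangle.isZero₃_of_isIso₁ _ ((clPullD w).map_distinguished _ hT) h1
  have hz2 : IsZero ((clPushD q).obj C) :=
    Triangle.isZero₃_of_isIso₁ _ ((clPushD q).map_distinguished _ hT) h2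
  have hz := isZero_of_fin w hw q hq hfin C (a - 1) hz1 hz2
  exact (Triangle.isZero₃_iff_isIso₁ _ hT).1 hz

end Groth.Agent.An.H882.ConeZero
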