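import Groth.Agent.An.H882.GMA
import Groth.Agent.Sga4h.RelC1Aff
import Groth.Agent.An.H862.PropD
import Groth.Agent.Etrest.ConstBasic

/-!
# The relative comparison for `D(X) ⊂ A^1_R`

* `acyc_pr`: acyclicity of `Spec R[X] ⟶ Spec R` for `R` over `ℂ`;
* `gm`: `Comp j (F|U[0])` for `j : U ⟶ A^1_R` the open `D(X)` and `F` a sheaf on `Spec R` killed by `n > 0`.
-/

set_option autoImplicit false
set_option linter.unusedSectionVars false
open CategoryTheory CategoryTheory.Limits AlgebraicGeometry Opposite TopologicalSpace Topology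
open DerivedCategory (homologyFunctor singleFunctor)

attribute [local instance] HasDerivedCategory.standard

noncomputable section
namespace Groth.Agent.An.H882.GM

open _root_.An
open Groth.Agent.Etrest.DEtPush Groth.Agent.An.H891.ClSq Groth.Agent.An.H891.CompSq
  Groth.Agent.EtpbcB.NKill Groth.Agent.EtpbcA.P1Charts Groth.Agent.An.H882.GMA
  Groth.Agent.An.H882.LinePts

theorem isUnit_natCast (X : Scheme.{0}) [X.Over SC] (n : ℕ) (hn : 0 < n) :
    IsUnit (n : Γ(X, ⊤)) := by
  have h : IsUnit (n : ℂ) := isUnit_iff_ne_zero.2 (Nat.cast_ne_zero.2 hn.ne')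
  have h2 := h.map (An.strHom X)
  rwa [map_natCast] at h2

/-- Acyclicity of the affine line over `Spec R`, `R` over `ℂ`. -/
theorem acyc_pr (R : CommRingCat.{0}) [(Spec R).Over SC] (n : ℕ) (hn : 0 < n)
    (F : EtCoh.Ab (Spec R)) (hF : EtCoh.KilledBy n F) : Groth.Agent.Sga4h.Acyc.Acyc (pr R) F :=
  Groth.Agent.Sga4h.RelC1Aff.acyc_of_isPullback
    (IsPullback.of_horiz_isIso ⟨(Category.id_comp _).trans (Category.comp_id _).symm⟩ :
      IsPullback (𝟙 (AA R)) (pr R) (pr R) (𝟙 (Spec R))) n (isUnit_natCast _ n hn) F hF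

attribute [local instance] overAA overPP

/-- **Relative comparison for `D(X) ⊂ A^1_R`**, from the two inputs for `P^1_R ⟶ Spec R`. -/
theorem gm (R : CommRingCat.{0}) [(Spec R).Over SC] [LocallyOfFiniteType (Spec R ↘ SC)]
    (ha : ∀ G : EtCoh.Ab (PP R), EtCoh.IsTorsion G →
      IsIso ((Groth.Agent.An.H890.Theta.theta (toB R)).app G))
    (hb : ∀ (J : EtCoh.Ab (PP R)) [Injective J] (l : ℕ), l.Prime → ∀ q : ℕ, 0 < q →
      IsZero (((clPush (An.Pts.mapC (toB R))).rightDerived q).obj ((An.epsPull (PP R)).obj (tor l J))))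
    (n : ℕ) (hn : 0 < n) (F : EtCoh.Ab (Spec R)) (hF : EtCoh.KilledBy n F)
    {U : Scheme.{0}} [U.Over SC] [LocallyOfFiniteType (U ↘ SC)] (j : U ⟶ AA R)
    [IsOpenImmersion j] [j.IsOver SC]
    (hj : Set.range j = {v | (Polynomial.X : Polynomial R) ∉ v.asIdeal}) :
    Comp j ((singleFunctor _ 0).obj ((EtCoh.pull (j ≫ pr R)).obj F)) :=
  comp_gm R F (acyc_pr R n hn F hF) n hn hF
    (fun K a _ hK => Groth.Agent.An.H862.PropD.comp_of_killed_complex (toB R) ha
      (fun J _ l hl q hq => hb J l hl q hq) K a hK) j hj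

end Groth.Agent.An.H882.GM
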