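import Groth.Agent.An.H862.AffTop
import Groth.Agent.EtpbcA.P1Charts

/-!
# The complex points of the affine line over an affine scheme

`Pts (Spec R[X]) ≃ₜ Pts (Spec R) × ℂ`.
-/

set_option autoImplicit false
set_option linter.unusedSectionVars false
open CategoryTheory CategoryTheory.Limits AlgebraicGeometry Topology TopologicalSpace Opposite
open Groth.Agent.EtpbcA.P1Charts

noncomputable section

namespace Groth.Agent.An.H882.LinePts

variable (R : CommRingCat.{0}) [(Spec R).Over An.SC]

/-- The affine line over `Spec R` as a scheme over `ℂ`. -/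
@[reducible] def overAA : (AA R).Over An.SC := ⟨pr R ≫ (Spec R ↘ An.SC)⟩

attribute [local instance] overAA

instance isOver_pr : (pr R).IsOver An.SC := ⟨rfl⟩

instance lft_pr : LocallyOfFiniteType (pr R) := by
  rw [pr, HasRingHomProperty.Spec_iff (P := @LocallyOfFiniteType)]
  exact (RingHom.finiteType_algebraMap (A := R) (B := Polynomial R)).2 inferInstance

instance lft_AA [LocallyOfFiniteType (Spec R ↘ An.SC)] : LocallyOfFiniteType (AA R ↘ An.SC) := by
  change LocallyOfFiniteType (pr R ≫ (Spec R ↘ An.SC))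
  infer_instance

/-- The coordinate. -/
def tt : Γ(AA R, ⊤) := (Scheme.ΓSpecIso (CommRingCat.of (Polynomial R))).inv (Polynomial.X : Polynomial R)

/-- A global function on `Spec R` as a function on the affine line. -/
def cc (r : Γ(Spec R, ⊤)) : Γ(AA R, ⊤) := (pr R).appTop r

theorem cc_eq (r : Γ(Spec R, ⊤)) : cc R r =
    (Scheme.ΓSpecIso (CommRingCat.of (Polynomial R))).inv
      (Polynomial.C ((Scheme.ΓSpecIso R).hom r) : Polynomial R) := by
  have h := Scheme.ΓSpecIso_inv_naturality (CommRingCat.ofHom (Polynomial.C : R →+* Polynomial R))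
  have h2 := congrArg (fun f => f ((Scheme.ΓSpecIso R).hom r)) h
  change (Scheme.ΓSpecIso (CommRingCat.of (Polynomial R))).inv (Polynomial.C ((Scheme.ΓSpecIso R).hom r)) =
    (pr R).appTop ((Scheme.ΓSpecIso R).inv ((Scheme.ΓSpecIso R).hom r)) at h2
  have h3 : (Scheme.ΓSpecIso R).inv ((Scheme.ΓSpecIso R).hom r) = r := by
    rw [← ConcreteCategory.comp_apply, Iso.hom_inv_id]
    rfl
  rw [h2, h3]
  rfl

/-- The map `Pts (Spec R[X]) → Pts (Spec R) × ℂ`. -/
def toProd (x : An.Pts (AA R)) : An.Pts (Spec R) × ℂ := (An.Pts.map (pr R) x, x.evTop (tt R))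

theorem continuous_toProd : Continuous (toProd R) :=
  (An.Pts.continuous_map _).prodMk (Groth.Agent.An.H863.PtsCont.continuous_evTop _)

theorem evTop_cc (x : An.Pts (AA R)) (r : Γ(Spec R, ⊤)) :
    x.evTop (cc R r) = (An.Pts.map (pr R) x).evTop r := by
  exact (An.Pts.ev_map (pr R) x ⊤ trivial r).symm

/-- Evaluation of a global function at a point given by a ring homomorphism. -/
theorem evTop_spec (A : CommRingCat.{0}) [(Spec A).Over An.SC] (x : An.Pts (Spec A))
    (φ : A ⟶ CommRingCat.of ℂ) (hx : x.1 = Spec.map φ) (a : A) :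
    x.evTop ((Scheme.ΓSpecIso A).inv a) = φ a := by
  unfold An.Pts.evTop An.Pts.ev
  have h1 : x.1.appLE ⊤ ⊤ (An.Pts.top_le_preimage x trivial) = (Spec.map φ).appTop := by
    rw [← hx]
    simp [Scheme.Hom.appLE, Scheme.Hom.appTop]
  have h := Scheme.ΓSpecIso_inv_naturality φ
  have h2 := congrArg (fun f => f a) h
  change (Scheme.ΓSpecIso (CommRingCat.of ℂ)).inv (φ a) =
    (Spec.map φ).appTop ((Scheme.ΓSpecIso A).inv a) at h2
  have h3 : (Scheme.ΓSpecIso (CommRingCat.of ℂ)).hom ((Spec.map φ).appTop ((Scheme.ΓSpecIso A).inv a)) =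
      φ a := by
    rw [← h2, ← ConcreteCategory.comp_apply, Iso.inv_hom_id]
    rfl
  rw [← h3, ← h1]

theorem surjective_toProd : Function.Surjective (toProd R) := by
  rintro ⟨x, z⟩
  let φ : R ⟶ CommRingCat.of ℂ := Spec.preimage x.1
  let ψ : CommRingCat.of (Polynomial R) ⟶ CommRingCat.of ℂ :=
    CommRingCat.ofHom (Polynomial.eval₂RingHom φ.hom z)
  have h1 : CommRingCat.ofHom (Polynomial.C : R →+* Polynomial R) ≫ ψ = φ := by
    ext r
    change Polynomial.eval₂RingHom φ.hom z (Polynomial.C r) = φ r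
    simp
  have h2 : Spec.map ψ ≫ pr R = x.1 := by
    rw [pr, ← Spec.map_comp, h1]
    exact Spec.map_preimage _
  let y : An.Pts (AA R) := ⟨Spec.map ψ, by
    change Spec.map ψ ≫ pr R ≫ (Spec R ↘ An.SC) = 𝟙 _
    rw [← Category.assoc, h2, x.2]⟩
  refine ⟨y, Prod.ext (Subtype.ext h2) ?_⟩
  change y.evTop (tt R) = z
  rw [tt, evTop_spec (CommRingCat.of (Polynomial R)) y ψ rfl]
  change Polynomial.eval₂RingHom φ.hom z Polynomial.X = z
  simp

theorem cc_strHom (c : ℂ) : cc R (An.strHom (Spec R) c) = An.strHom (AA R) c := by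
  have h : (AA R ↘ An.SC) = pr R ≫ (Spec R ↘ An.SC) := rfl
  change (pr R).appTop ((Spec R ↘ An.SC).appTop ((Scheme.ΓSpecIso (CommRingCat.of ℂ)).inv c)) =
    (AA R ↘ An.SC).appTop ((Scheme.ΓSpecIso (CommRingCat.of ℂ)).inv c)
  rw [h, Scheme.Hom.comp_appTop]
  rfl

/-- The generators of `Γ(A^1_R)`. -/
def gens {n : ℕ} (s : Fin n → Γ(Spec R, ⊤)) : Option (Fin n) → Γ(AA R, ⊤)
  | none => tt R
  | some i => cc R (s i)

theorem surjective_gens {n : ℕ} (s : Fin n → Γ(Spec R, ⊤))
    (hs : Function.Surjective (MvPolynomial.eval₂Hom (An.strHom (Spec R)) s)) :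
    Function.Surjective (MvPolynomial.eval₂Hom (An.strHom (AA R)) (gens R s)) := by
  set ρ := (MvPolynomial.eval₂Hom (An.strHom (AA R)) (gens R s)).range with hρ
  have h1 : ∀ r, cc R r ∈ ρ := by
    intro r
    obtain ⟨q, rfl⟩ := hs r
    refine ⟨MvPolynomial.rename some q, ?_⟩
    rw [MvPolynomial.coe_eval₂Hom, MvPolynomial.eval₂_rename]
    change _ = (pr R).appTop.hom (MvPolynomial.eval₂ (An.strHom (Spec R)) s q)
    rw [MvPolynomial.hom_eval₂]
    exact congrArg (fun g => MvPolynomial.eval₂ g (fun i => (pr R).appTop.hom (s i)) q)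
      (RingHom.ext fun c => (cc_strHom R c).symm)
  have h2 : tt R ∈ ρ := ⟨MvPolynomial.X none, by simp [gens]⟩
  have h3 : ∀ p : Polynomial R, (Scheme.ΓSpecIso (CommRingCat.of (Polynomial R))).inv.hom p ∈ ρ := by
    intro p
    induction p using Polynomial.induction_on' with
    | add p q hp hq => rw [map_add]; exact ρ.add_mem hp hq
    | monomial n a =>
      rw [← Polynomial.C_mul_X_pow_eq_monomial, map_mul, map_pow]
      refine ρ.mul_mem ?_ (ρ.pow_mem h2 n)
      have := h1 ((Scheme.ΓSpecIso R).inv a)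
      rw [cc_eq, ← ConcreteCategory.comp_apply, Iso.inv_hom_id] at this
      exact this
  intro y
  have h4 := h3 ((Scheme.ΓSpecIso (CommRingCat.of (Polynomial R))).hom y)
  rw [← ConcreteCategory.comp_apply, Iso.hom_inv_id] at h4
  exact h4

/-- `Pts (Spec R[X]) → Pts (Spec R) × ℂ` is a homeomorphism. -/
theorem isHomeomorph_toProd [LocallyOfFiniteType (Spec R ↘ An.SC)] : IsHomeomorph (toProd R) := by
  obtain ⟨n, s, hs⟩ := Groth.Agent.An.H862.AffTop.exists_gen (X := Spec R) ⊤ (isAffineOpen_top _)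
  rw [Groth.Agent.An.H862.AffTop.strU_top] at hs
  have e1 := Groth.Agent.An.H862.AffTop.isClosedEmbedding_evTop s hs
  have e2 := Groth.Agent.An.H862.AffTop.isClosedEmbedding_evTop (gens R s) (surjective_gens R s hs)
  let h : An.Pts (Spec R) × ℂ → (Option (Fin n) → ℂ) := fun p i =>
    match i with
    | none => p.2
    | some i => p.1.evTop (s i)
  have hcont : Continuous h := by
    refine continuous_pi fun i => ?_
    match i with
    | none => exact continuous_snd
    | some i => exact (Groth.Agent.An.H863.PtsCont.continuous_evTop _).comp continuous_fst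
  have hinj : Function.Injective h := by
    rintro ⟨x, z⟩ ⟨x', z'⟩ hh
    have h1 : z = z' := congrFun hh none
    have h2 : x = x' := e1.injective (funext fun i => congrFun hh (some i))
    rw [h1, h2]
  have hfac : (fun (x : An.Pts (AA R)) (i : Option (Fin n)) => x.evTop (gens R s i)) = h ∘ toProd R := by
    funext x i
    match i with
    | none => rfl
    | some i => exact evTop_cc R x (s i)
  rw [hfac] at e2
  refine isHomeomorph_iff_continuous_isClosedMap_bijective.2 ⟨continuous_toProd R, ?_,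
    Function.Injective.of_comp e2.injective, surjective_toProd R⟩
  intro Z hZ
  have h1 : toProd R '' Z = h ⁻¹' ((h ∘ toProd R) '' Z) := by
    rw [Set.image_comp, Set.preimage_image_eq _ hinj]
  rw [h1]
  exact (e2.isClosedMap Z hZ).preimage hcont

/-- The homeomorphism `Pts (Spec R[X]) ≃ₜ Pts (Spec R) × ℂ`. -/
def homeo [LocallyOfFiniteType (Spec R ↘ An.SC)] : An.Pts (AA R) ≃ₜ An.Pts (Spec R) × ℂ :=
  (isHomeomorph_toProd R).homeomorph

@[simp] theorem homeo_apply [LocallyOfFiniteType (Spec R ↘ An.SC)] (x : An.Pts (AA R)) :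
    homeo R x = (An.Pts.map (pr R) x, x.evTop (tt R)) := rfl

end Groth.Agent.An.H882.LinePts
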