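import Groth.Agent.An.H882.TStep
import Groth.Agent.An.H882.LinePts
import Groth.Agent.An.H4.HI
import Groth.Agent.Sga4h.AcycUniv
import Groth.Agent.Sga4h.Acyc
import Groth.Agent.Sga4h.RelC1Geo
import Groth.Agent.EtpbcB.NKillEt
import Groth.Prelude.Def_EtCore

/-!
# The comparison for `D(X) ⊂ Spec R[X]`

* `comp_of_isIso`: isomorphisms;
* `comp_pr`: the affine line over `Spec R`, sheaves coming from `Spec R` which are acyclic for it;
* `comp_chart`: the chart `A^1_R ⟶ P^1_R`, from the case of the proper morphism `P^1_R ⟶ Spec R`;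
* `comp_gm`: the open `D(X)` of `A^1_R`.
-/

set_option autoImplicit false
set_option linter.unusedSectionVars false
open CategoryTheory CategoryTheory.Limits AlgebraicGeometry Opposite TopologicalSpace Topology
open DerivedCategory (homologyFunctor singleFunctor)

attribute [local instance] HasDerivedCategory.standard

noncomputable section
namespace Groth.Agent.An.H882.GMA

open _root_.An
open Groth.Agent.Etrest.RDer2 Groth.Agent.Etrest.RDer3 Groth.Agent.Etrest.RDer4
  Groth.Agent.Etrest.RDer5
  Groth.Agent.Etrest.DEtPush Groth.Agent.Etrest.DEtMate Groth.Agent.Sga4h.RPair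
  Groth.Agent.An.H884.ClBC Groth.Agent.An.H891.Geom Groth.Agent.An.H891.ClSq
  Groth.Agent.An.H891.CompSq Groth.Agent.EtpbcB Groth.Agent.EtpbcB.NKill
  Groth.Agent.EtpbcA.P1Charts Groth.Agent.Sga4h.RelC1Geo Groth.Agent.An.H882.TStep
  Groth.Agent.An.H882.LinePts

section iso

variable {T S : Type} [TopologicalSpace T] [TopologicalSpace S]

/-- `clBC id ≅ 𝟭`. -/
def clBCId (T : Type) [TopologicalSpace T] : clBC (ContinuousMap.id T) ≅ 𝟭 (Cl T) :=
  NatIso.ofComponents (fun A =>
    { hom := ⟨fun q => q.1.2, continuous_snd.comp continuous_subtype_val, fun q => q.2.symm⟩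
      inv := ⟨fun a => ⟨(A.p a, a), rfl⟩,
        Continuous.subtype_mk (A.lh.continuous.prodMk continuous_id) _, fun _ => rfl⟩
      hom_inv_id := hom_ext_pr _ (fun _ => rfl)
      inv_hom_id := Cl.hom_ext rfl })
    (fun _ => Cl.hom_ext rfl)

/-- `clPush id ≅ 𝟭`. -/
def clPushId (T : Type) [TopologicalSpace T] : clPush (ContinuousMap.id T) ≅ 𝟭 (Cl.Ab T) where
  hom :=
    { app := fun F => ⟨{ app := fun U => F.obj.map ((clBCId T).inv.app U.unop).op
                         naturality := fun U V a => by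
                           change F.obj.map ((clBC (ContinuousMap.id T)).map a.unop).op ≫ F.obj.map _ =
                             F.obj.map _ ≫ F.obj.map a.unop.op
                           rw [← Functor.map_comp, ← Functor.map_comp, ← op_comp, ← op_comp]
                           congr 2
                           exact ((clBCId T).inv.naturality a.unop).symm }⟩
      naturality := fun M N φ => by
        apply cl_hom_ext
        intro U
        exact (φ.hom.naturality _).symm }
  inv :=
    { app := fun F => ⟨{ app := fun U => F.obj.map ((clBCId T).hom.app U.unop).op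
                         naturality := fun U V a => by
                           change F.obj.map a.unop.op ≫ F.obj.map _ =
                             F.obj.map _ ≫ F.obj.map ((clBC (ContinuousMap.id T)).map a.unop).op
                           rw [← Functor.map_comp, ← Functor.map_comp, ← op_comp, ← op_comp]
                           congr 2 }⟩
      naturality := fun M N φ => by
        apply cl_hom_ext
        intro U
        exact (φ.hom.naturality _).symm }
  hom_inv_id := by
    ext M : 2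
    apply cl_hom_ext
    intro U
    change M.obj.map _ ≫ M.obj.map _ = 𝟙 _
    rw [← Functor.map_comp, ← op_comp, Iso.hom_inv_id_app]
    exact M.obj.map_id _
  inv_hom_id := by
    ext M : 2
    apply cl_hom_ext
    intro U
    change M.obj.map _ ≫ M.obj.map _ = 𝟙 _
    rw [← Functor.map_comp, ← op_comp, Iso.inv_hom_id_app]
    exact M.obj.map_id _

/-- Direct image along a homeomorphism is an equivalence. -/
theorem isEquivalence_clPush (f : C(T, S)) (g : C(S, T)) (h1 : f.comp g = ContinuousMap.id S)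
    (h2 : g.comp f = ContinuousMap.id T) : (clPush f).IsEquivalence :=
  (CategoryTheory.Equivalence.mk (clPush f) (clPush g)
    (clPushComp' g f h2 ≪≫ clPushId T).symm (clPushComp' f g h1 ≪≫ clPushId S)).isEquivalence_functor

/-- Inverse image along a homeomorphism is an equivalence. -/
theorem isEquivalence_clPull (f : C(T, S)) (g : C(S, T)) (h1 : f.comp g = ContinuousMap.id S)
    (h2 : g.comp f = ContinuousMap.id T) : (clPull f).IsEquivalence := by
  have := isEquivalence_clPush f g h1 h2
  exact (clAdj f).isEquivalence_left_of_isEquivalence_right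

variable {X Y : Scheme.{0}} [X.Over SC] [Y.Over SC] [LocallyOfFiniteType (X ↘ SC)]
  [LocallyOfFiniteType (Y ↘ SC)]

/-- The comparison for isomorphisms. -/
theorem comp_of_isIso (f : X ⟶ Y) [f.IsOver SC] [IsIso f] (K : DCoh.DEt X) : Comp f K := by
  have i0 : (inv f).IsOver SC := ⟨by rw [IsIso.inv_comp_eq, comp_over]⟩
  have h1 : (EtCoh.pull f).IsEquivalence := Groth.Agent.Sga4h.GSq.isEquivalence_pull_of_isIso f
  have h2 : (clPull (An.Pts.mapC f)).IsEquivalence := by
    refine isEquivalence_clPull _ (An.Pts.mapC (inv f)) ?_ ?_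
    · ext x : 1
      exact Subtype.ext (by
        change (x.1 ≫ inv f) ≫ f = x.1
        rw [Category.assoc, IsIso.inv_hom_id, Category.comp_id])
    · ext x : 1
      exact Subtype.ext (by
        change (x.1 ≫ f) ≫ inv f = x.1
        rw [Category.assoc, IsIso.hom_inv_id, Category.comp_id])
  have h3 : (gEt f).LD.IsEquivalence := Groth.Agent.Sga4h.GSq.isEquivalence_mapDer (EtCoh.pull f)
  have h4 : (gCl (An.Pts.mapC f)).LD.IsEquivalence :=
    Groth.Agent.Sga4h.GSq.isEquivalence_mapDer (clPull (An.Pts.mapC f))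
  exact bc_of_vert K

theorem comp_congr {f f' : X ⟶ Y} (h : f = f') [i : f.IsOver SC] [i' : f'.IsOver SC]
    {K : DCoh.DEt X} (hK : Comp f K) : Comp f' K := by
  subst h
  exact hK

end iso

section killed

variable {X Y : Scheme.{0}}

/-- The cohomology sheaves of `Rf_* G` are killed by `n` if `G` is. -/
theorem killedBy_HDEt (f : X ⟶ Y) {n : ℕ} {G : EtCoh.Ab X} (hG : EtCoh.KilledBy n G) (i : ℤ) :
    EtCoh.KilledBy n (DCoh.HDEt ((pushD f).obj ((singleFunctor _ 0).obj G)) i) := by
  rw [NKillEt.killedBy_iff] at hG ⊢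
  let Φ := singleFunctor (EtCoh.Ab X) 0 ⋙ pushD f ⋙ homologyFunctor (EtCoh.Ab Y) i
  have h1 : Φ.map (n • 𝟙 G) = n • 𝟙 (Φ.obj G) := by
    rw [Functor.map_nsmul, CategoryTheory.Functor.map_id]
  have h2 : n • 𝟙 G = 0 := hG
  rw [h2, Functor.map_zero] at h1
  exact h1.symm

end killed

section line

variable (R : CommRingCat.{0}) [(Spec R).Over SC] [LocallyOfFiniteType (Spec R ↘ SC)]

attribute [local instance] overAA

/-- The comparison for the affine line and a sheaf from the base. -/
theorem comp_pr (F : EtCoh.Ab (Spec R)) (hac : Groth.Agent.Sga4h.Acyc.Acyc (pr R) F) :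
    Comp (pr R) ((singleFunctor _ 0).obj ((EtCoh.pull (pr R)).obj F)) := by
  have h1 : IsAcyc (EtCoh.push (pr R)) ((EtCoh.pull (pr R)).obj F) :=
    fun n => hac.2 (n + 1) n.succ_pos
  have h2 : IsAcyc (clPush (An.Pts.mapC (pr R)))
      ((clPull (An.Pts.mapC (pr R))).obj ((An.epsPull (Spec R)).obj F)) := fun n =>
    Groth.Agent.An.H4.HI.isZero_rightDerived_C (An.Pts.mapC (pr R)) (homeo R) (fun _ => rfl) _
      (n + 1) n.succ_pos
  have h3 : IsIso ((clAdj (An.Pts.mapC (pr R))).unit.app ((An.epsPull (Spec R)).obj F)) :=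
    Groth.Agent.An.H4.HI.isIso_unit_C (An.Pts.mapC (pr R)) (homeo R) (fun _ => rfl) _
  exact Groth.Agent.Sga4h.AcycUniv.bc_single (EtCoh.pullPushAdj (pr R))
    (clAdj (An.Pts.mapC (pr R))) (cmpOf (f := gEt (pr R)) (g := gEps (Spec R))
      (f' := gCl (An.Pts.mapC (pr R))) (g' := gEps (AA R)) (gam (pr R))) F h1 hac.1 h2 h3 0

/-- The projective line over `Spec R` as a scheme over `ℂ`. -/
@[reducible] def overPP : (PP R).Over SC := ⟨toB R ≫ (Spec R ↘ SC)⟩

attribute [local instance] overPP

instance isOver_toB : (toB R).IsOver SC := ⟨rfl⟩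

instance isOver_chart (i : Fin (1 + 1)) : (chart i R).IsOver SC := ⟨by
  change chart i R ≫ toB R ≫ (Spec R ↘ SC) = pr R ≫ (Spec R ↘ SC)
  rw [chart_toB_assoc]⟩

instance isOver_infty : (infty R).IsOver SC := ⟨by
  change infty R ≫ toB R ≫ (Spec R ↘ SC) = (Spec R ↘ SC)
  rw [infty_toB_assoc]⟩

instance lft_PP : LocallyOfFiniteType (PP R ↘ SC) := by
  change LocallyOfFiniteType (toB R ≫ (Spec R ↘ SC))
  infer_instance

variable (F : EtCoh.Ab (Spec R)) (hac : Groth.Agent.Sga4h.Acyc.Acyc (pr R) F)
  (n : ℕ) (hn : 0 < n) (hF : EtCoh.KilledBy n F)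
  (hp : ∀ (K : DCoh.DEt (PP R)) (a : ℤ) [K.IsGE a],
    (∀ i : ℤ, ∃ m : ℕ, 0 < m ∧ EtCoh.KilledBy m (DCoh.HDEt K i)) → Comp (toB R) K)

include hac hn hF hp in
/-- The comparison for the chart of the projective line. -/
theorem comp_chart : Comp (chart 0 R) ((singleFunctor _ 0).obj ((EtCoh.pull (pr R)).obj F)) := by
  haveI : (chart 0 R ≫ toB R).IsOver SC := ⟨by
    rw [Category.assoc]
    exact (isOver_chart R 0).comp_over⟩
  haveI : (infty R ≫ toB R).IsOver SC := ⟨by
    rw [Category.assoc]
    exact (isOver_infty R).comp_over⟩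
  set K : DCoh.DEt (AA R) := (singleFunctor _ 0).obj ((EtCoh.pull (pr R)).obj F) with hK
  have i1 : K.IsGE 0 := inferInstance
  have i2 : ((pushD (chart 0 R)).obj K).IsGE 0 := TR_isGE (EtCoh.push (chart 0 R)) K 0
  exact tstep (toB R) (chart 0 R) (infty R) (by rw [range_infty, compl_compl])
    (isFinite_infty_toB R) (chart 0 R) (𝟙 _) (𝟙 _) (IsKernelPair.id_of_mono (chart 0 R)) K 0
    (comp_of_isIso (𝟙 _) _) (comp_congr (chart_toB 0 R).symm (comp_pr R F hac))
    (hp _ 0 (fun i => ⟨n, hn, killedBy_HDEt _ (NKillEt.killedBy_pull _ hF) i⟩))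

include hac hn hF hp in
/-- The comparison for `D(X) ⊂ A^1_R`. -/
theorem comp_gm {U : Scheme.{0}} [U.Over SC] [LocallyOfFiniteType (U ↘ SC)] (j : U ⟶ AA R)
    [IsOpenImmersion j] [j.IsOver SC]
    (hj : Set.range j = {v | (Polynomial.X : Polynomial R) ∉ v.asIdeal}) :
    Comp j ((singleFunctor _ 0).obj ((EtCoh.pull (j ≫ pr R)).obj F)) := by
  have hr : ∀ v : AA R, v ∈ Set.range j ↔ chart (0 + 1) R v ∈ Set.range (chart 0 R) := by
    intro v
    rw [hj, chart_mem_range_iff]
    rfl
  have h1 : Set.range (j ≫ chart (0 + 1) R) ⊆ Set.range (chart 0 R) := by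
    rintro _ ⟨x, rfl⟩
    rw [Scheme.Hom.comp_apply]
    exact (hr _).1 ⟨x, rfl⟩
  let k : U ⟶ AA R := IsOpenImmersion.lift (chart 0 R) (j ≫ chart (0 + 1) R) h1
  have hk : k ≫ chart 0 R = j ≫ chart (0 + 1) R := IsOpenImmersion.lift_fac _ _ _
  have sq : IsPullback k j (chart 0 R) (chart (0 + 1) R) :=
    IsOpenImmersion.isPullback _ _ _ _ hk.symm (by
      ext x
      exact (hr x).symm)
  have e : k ≫ pr R = j ≫ pr R := by
    rw [← chart_toB 0 R, reassoc_of% hk, chart_toB, chart_toB]
  haveI : k.IsOver SC := ⟨by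
    change k ≫ pr R ≫ (Spec R ↘ SC) = _
    rw [reassoc_of% e]
    exact comp_over j SC⟩
  have h2 := Comp.restrict sq (comp_chart R F hac n hn hF hp)
  have e1 : (pullD k).obj ((singleFunctor _ 0).obj ((EtCoh.pull (pr R)).obj F)) ≅
      (singleFunctor _ 0).obj ((EtCoh.pull (j ≫ pr R)).obj F) :=
    ((EtCoh.pull k).mapDerivedCategorySingleFunctor 0).app _ ≪≫
      (singleFunctor _ 0).mapIso (((EtCore.pullComp k (pr R)).symm ≪≫ EtCore.pullCongr e).app F)
  exact h2.of_iso e1

end line

end Groth.Agent.An.H882.GMA
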