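import Groth.Agent.An.H882.GM
import Groth.Agent.An.H495.CurveGM
import Groth.Agent.An.H862.ProperField
import Groth.Agent.Etrest.ConstBasic

/-!
# The input `hgm` of `CurveGM.curve_of_gm` for the comparison relation `CP`
-/

set_option autoImplicit false
set_option linter.unusedSectionVars false
open CategoryTheory CategoryTheory.Limits AlgebraicGeometry Opposite TopologicalSpace Topology
open DerivedCategory (homologyFunctor singleFunctor)

attribute [local instance] HasDerivedCategory.standard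

noncomputable section
namespace Groth.Agent.An.H882.GMField

open _root_.An
open Groth.Agent.Etrest Groth.Agent.Etrest.DEtPush Groth.Agent.Sga4h.IndCalc Groth.Agent.An.H891.ClSq
  Groth.Agent.An.H891.CompSq
  Groth.Agent.EtpbcB.NKill Groth.Agent.EtpbcA.P1Charts Groth.Agent.An.H882.GMA
  Groth.Agent.An.H882.LinePts Groth.Agent.An.H862.Asm4219 Groth.Agent.An.H862.ProperField
  Groth.Agent.An.H495.CurveGM

/-- The case of `D(X) ⊂ Spec R[X]`, in the form of `CurveGM.curve_of_gm`. -/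
theorem hgm {m : ℕ} (H : ∀ {X S : Scheme.{0}} [X.Over An.SC] [S.Over An.SC]
      [LocallyOfFiniteType (X ↘ An.SC)] [LocallyOfFiniteType (S ↘ An.SC)] (f : X ⟶ S)
      [f.IsOver An.SC] [IsProper f], PCIn f)
    (R : CommRingCat.{0}) (s : Spec R ⟶ An.SC) [FT s] [Smooth s] (ℓ : ℕ) (hℓ : ℓ.Prime) (_ : ℓ ∣ m) :
    CP (Spec.map (CommRingCat.ofHom (Polynomial.C : R →+* Polynomial R)) ≫ s) (gm R).ι
      ((singleFunctor _ 0).obj (EtCoh.const _ (ZMod ℓ))) := by
  have : NeZero ℓ := ⟨hℓ.ne_zero⟩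
  intro _ _ _
  let iS : (Spec R).Over An.SC := ⟨s⟩
  let iA : (AA R).Over An.SC := overAA R
  let iP : (PP R).Over An.SC := overPP R
  let iU : (gm R).toScheme.Over An.SC := ⟨(gm R).ι ≫ pr R ≫ s⟩
  have i1 : LocallyOfFiniteType (Spec R ↘ An.SC) := inferInstanceAs (LocallyOfFiniteType s)
  have i2 : LocallyOfFiniteType ((gm R).toScheme ↘ An.SC) :=
    inferInstanceAs (LocallyOfFiniteType ((gm R).ι ≫ pr R ≫ s))
  have i3 : (gm R).ι.IsOver An.SC := ⟨rfl⟩
  have h := GM.gm R (H (toB R)).deg0 (fun J _ l hl q hq => (H (toB R)).acyc J l hl q hq) ℓ hℓ.pos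
    (EtCoh.const (Spec R) (ZMod ℓ)) (ConstBasic.killedBy_const _ (ZMod ℓ) ℓ (fun m => by simp))
    (gm R).ι (by
      rw [Scheme.Opens.range_ι]
      rfl)
  exact h.of_iso ((singleFunctor _ 0).mapIso ((ConstBasic.constPull ((gm R).ι ≫ pr R)).app _))

end Groth.Agent.An.H882.GMField
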