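import Groth.Agent.An.H882.FinPush

/-!
# Restriction of a sheaf on a classical site along an open embedding

`compCl w : Cl W ⥤ Cl Q` for an open embedding `w`; the restriction `F|W`; if the inverse image `w^* F`
vanishes then `F` has no nonzero sections over the objects lying over the range of `w`.
-/

set_option autoImplicit false
universe u
open CategoryTheory CategoryTheory.Limits TopologicalSpace Topology Opposite

namespace Groth.Agent.An.H882.OpenCl

open _root_.An Groth.Agent.An.H886.EtSpace Groth.Agent.An.H884.ClBC Groth.Agent.An.H882.SuppFin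
  Groth.Agent.An.H882.FinPush

variable {W Q : Type u} [TopologicalSpace W] [TopologicalSpace Q] (w : C(W, Q)) (hw : IsOpenEmbedding w)

/-- Composition with an open embedding. -/
def compCl : Cl W ⥤ Cl Q where
  obj A := ⟨A.E, w ∘ A.p, hw.isLocalHomeomorph.comp A.lh⟩
  map g := ⟨g.toFun, g.continuous, fun a => congrArg w (g.over a)⟩
  map_id _ := rfl
  map_comp _ _ := rfl

instance full_compCl : (compCl w hw).Full where
  map_surjective g := ⟨⟨g.toFun, g.continuous, fun a => hw.injective (g.over a)⟩, rfl⟩

instance faithful_compCl : (compCl w hw).Faithful where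
  map_injective {A B} g g' h := by
    have h1 : ((compCl w hw).map g).toFun = ((compCl w hw).map g').toFun := by rw [h]
    exact Cl.hom_ext h1

/-- The object of `Cl W` given by an object of `Cl Q` with a factorization of its structure map. -/
def factor (D : Cl Q) (p : D.E → W) (hp : ∀ d, w (p d) = D.p d) : Cl W :=
  ⟨D.E, p, by
    have h : w ∘ p = D.p := funext hp
    have h2 : IsLocalHomeomorph (w ∘ p) := by rw [h]; exact D.lh
    have hpc : Continuous p := hw.isEmbedding.continuous_iff.2 (by rw [h]; exact D.lh.continuous)
    exact h2.of_comp hw.isLocalHomeomorph hpc⟩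

/-- The comparison isomorphism. -/
def factorIso (D : Cl Q) (p : D.E → W) (hp : ∀ d, w (p d) = D.p d) :
    (compCl w hw).obj (factor w hw D p hp) ≅ D where
  hom := ⟨id, continuous_id, fun d => (hp d).symm⟩
  inv := ⟨id, continuous_id, fun d => hp d⟩

theorem compatiblePreserving_compCl : CompatiblePreserving (Cl.topology Q) (compCl w hw) :=
  compatiblePreservingOfDownwardsClosed _ _ (fun {c d} f =>
    ⟨factor w hw d (fun x => c.p (f.toFun x)) (fun x => f.over x), factorIso w hw d _ _⟩)

theorem coverPreserving_compCl : CoverPreserving (Cl.topology W) (Cl.topology Q) (compCl w hw) where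
  cover_preserve {A R} hR := by
    refine mem_topology _ fun a => ?_
    obtain ⟨B, g, b, hg, hb⟩ := exists_of_mem hR a
    exact ⟨_, (compCl w hw).map g, b, Sieve.image_mem_functorPushforward _ _ hg, hb⟩

instance isContinuous_compCl : (compCl w hw).IsContinuous (Cl.topology W) (Cl.topology Q) :=
  Functor.isContinuous_of_coverPreserving (compatiblePreserving_compCl w hw)
    (coverPreserving_compCl w hw)

/-- Restriction to an open subspace. -/
noncomputable def restr : Cl.Ab Q ⥤ Cl.Ab W :=
  (compCl w hw).sheafPushforwardContinuous AddCommGrpCat.{u + 1} (Cl.topology W) (Cl.topology Q)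

/-- The projection `W ×_Q A ⟶ A`. -/
def proj (A : Cl Q) : (compCl w hw).obj ((clBC w).obj A) ⟶ A :=
  ⟨fun q => q.1.2, continuous_snd.comp continuous_subtype_val, fun q => q.2.symm⟩

theorem proj_naturality {A B : Cl Q} (g : A ⟶ B) :
    (compCl w hw).map ((clBC w).map g) ≫ proj w hw B = proj w hw A ≫ g := rfl

/-- The canonical map `F ⟶ w_* (F|W)`. -/
noncomputable def toPush (F : Cl.Ab Q) : F ⟶ (push w).obj ((restr w hw).obj F) :=
  ⟨{ app := fun A => F.obj.map (proj w hw A.unop).op
     naturality := fun A B g => by
       change F.obj.map g ≫ F.obj.map _ = F.obj.map _ ≫ F.obj.map _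
       rw [← F.obj.map_comp, ← F.obj.map_comp]
       rfl }⟩

include hw in
/-- If `w^* F = 0` then `F` has no nonzero section over objects lying over the range of `w`. -/
theorem eq_zero_of_isZero_pull (F : Cl.Ab Q)
    (h : IsZero (((clBC w).sheafPullback AddCommGrpCat.{u + 1} (Cl.topology Q) (Cl.topology W)).obj F))
    (A : Cl Q) (hA : ∀ a, A.p a ∈ Set.range w) (x : Cl.sect F A) : x = 0 := by
  have adj := (clBC w).sheafAdjunctionContinuous AddCommGrpCat.{u + 1} (Cl.topology Q) (Cl.topology W)
  have h0 : toPush w hw F = 0 := by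
    apply (adj.homEquiv F ((restr w hw).obj F)).symm.injective
    exact h.eq_of_src _ _
  choose p hp using hA
  -- the section of the projection
  let σ : A ⟶ (compCl w hw).obj ((clBC w).obj A) :=
    ⟨fun a => ⟨(p a, a), hp a⟩, Continuous.subtype_mk ((hw.isEmbedding.continuous_iff.2 (by
      have : w ∘ p = A.p := funext hp
      rw [this]
      exact A.lh.continuous)).prodMk continuous_id) _, fun a => hp a⟩
  have hσ : σ ≫ proj w hw A = 𝟙 A := rfl
  have h1 : res F (proj w hw A) x = 0 := by
    have h2 := congrArg (fun k => (k.hom.app (op A)).hom x) h0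
    exact h2
  calc x = res F (𝟙 _) x := (res_id F x).symm
    _ = res F (σ ≫ proj w hw A) x := by rw [hσ]
    _ = res F σ (res F (proj w hw A) x) := res_comp F _ _ _
    _ = 0 := by rw [h1, map_zero]

end Groth.Agent.An.H882.OpenCl
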