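import Groth.Agent.An.H886.EtSpace
import Mathlib.Topology.SeparatedMap

/-!
# Sheaves supported on a closed subset which is finite over the base

If `F` is an abelian sheaf on `Q` with no sections off the closed set `T`, the restriction of `q : Q → S`
to `T` is closed with finite fibres, `q` is a separated map, and `F` has no nonzero section on the
preimages of the opens of `S`, then `F = 0`.
-/

set_option autoImplicit false
universe u
open CategoryTheory TopologicalSpace Topology Opposite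

namespace Groth.Agent.An.H882.SuppFin

open _root_.An Groth.Agent.An.H886.EtSpace

variable {Q S : Type u} [TopologicalSpace Q] [TopologicalSpace S]

/-- Factor a morphism through an open subset of the target containing its image. -/
def liftOpen {A B : Cl Q} (g : B ⟶ A) (W : Set A.E) (hW : IsOpen W) (h : ∀ b, g.toFun b ∈ W) :
    B ⟶ A.restrictOpen W hW :=
  ⟨fun b => ⟨g.toFun b, h b⟩, g.continuous.subtype_mk _, fun b => g.over b⟩

theorem comp_liftOpen {A B C : Cl Q} (g : B ⟶ A) (W : Set A.E) (hW : IsOpen W)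
    (h : ∀ b, g.toFun b ∈ W) (k : C ⟶ B) (h' : ∀ c, (k ≫ g).toFun c ∈ W) :
    k ≫ liftOpen g W hW h = liftOpen (k ≫ g) W hW h' := rfl

theorem liftOpen_ι {A : Cl Q} (W : Set A.E) (hW : IsOpen W)
    (h : ∀ b, (A.restrictOpenι W hW).toFun b ∈ W) :
    liftOpen (A.restrictOpenι W hW) W hW h = 𝟙 _ := rfl

/-- Glueing a section with zero. -/
theorem exists_glue (F : Cl.Ab Q) {A : Cl Q} (O₁ O₂ : Set A.E) (h₁ : IsOpen O₁)
    (hc : O₁ ∪ O₂ = Set.univ) (h₂ : IsOpen O₂) (y : Cl.sect F (A.restrictOpen O₁ h₁))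
    (hz : ∀ (B : Cl Q) (g : B ⟶ A), (∀ b, g.toFun b ∈ O₁) → (∀ b, g.toFun b ∈ O₂) →
      ∀ x : Cl.sect F B, x = 0) :
    ∃ z : Cl.sect F A, res F (A.restrictOpenι O₁ h₁) z = y := by
  classical
  let R : Sieve A :=
    { arrows := fun B g => (∀ b, g.toFun b ∈ O₁) ∨ (∀ b, g.toFun b ∈ O₂)
      downward_closed := by
        rintro B C g (hg | hg) k
        · exact Or.inl fun c => hg _
        · exact Or.inr fun c => hg _ }
  have hR : R ∈ Cl.topology Q A := by
    refine mem_topology R fun a => ?_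
    rcases (show a ∈ O₁ ∪ O₂ by rw [hc]; trivial) with ha | ha
    · exact ⟨_, A.restrictOpenι O₁ h₁, ⟨a, ha⟩, Or.inl fun b => b.2, rfl⟩
    · exact ⟨_, A.restrictOpenι O₂ h₂, ⟨a, ha⟩, Or.inr fun b => b.2, rfl⟩
  let x : Presieve.FamilyOfElements (F.obj ⋙ forget AddCommGrpCat.{u + 1}) R.arrows := fun B g _ =>
    if h : ∀ b, g.toFun b ∈ O₁ then (res F (liftOpen g O₁ h₁ h) y : Cl.sect F B) else (0 : Cl.sect F B)
  have hx : x.SieveCompatible := by
    intro B C g k hg
    change x (k ≫ g) (R.downward_closed hg k) = res F k (x g hg)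
    by_cases h : ∀ b, g.toFun b ∈ O₁
    · have h' : ∀ c, (k ≫ g).toFun c ∈ O₁ := fun c => h _
      have e1 : x g hg = res F (liftOpen g O₁ h₁ h) y := dif_pos h
      have e2 : x (k ≫ g) (R.downward_closed hg k) = res F (liftOpen (k ≫ g) O₁ h₁ h') y := dif_pos h'
      rw [e1, e2, ← res_comp, comp_liftOpen g O₁ h₁ h k h']
    · have e1 : x g hg = (0 : Cl.sect F B) := dif_neg h
      have hg2 : ∀ b, g.toFun b ∈ O₂ := hg.resolve_left h
      rw [e1, map_zero]
      by_cases h' : ∀ c, (k ≫ g).toFun c ∈ O₁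
      · exact hz C (k ≫ g) h' (fun c => hg2 _) _
      · exact dif_neg h'
  obtain ⟨z, hz', -⟩ := (isSheaf_type F R hR) x (Presieve.compatible_iff_sieveCompatible x |>.2 hx)
  refine ⟨z, ?_⟩
  have h0 : ∀ b, (A.restrictOpenι O₁ h₁).toFun b ∈ O₁ := fun b => b.2
  have e := hz' (A.restrictOpenι O₁ h₁) (Or.inl h0)
  have e1 : x (A.restrictOpenι O₁ h₁) (Or.inl h0) =
      res F (liftOpen (A.restrictOpenι O₁ h₁) O₁ h₁ h0) y := dif_pos h0
  rw [liftOpen_ι, res_id] at e1
  exact e.trans e1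

/-- The hypothesis on the support: the restriction of `q` to `T` is closed with finite fibres. -/
structure FinOn (q : Q → S) (T : Set Q) : Prop where
  closed : ∀ Z : Set Q, IsClosed Z → Z ⊆ T → IsClosed (q '' Z)
  fin : ∀ s : S, (q ⁻¹' {s} ∩ T).Finite

omit [TopologicalSpace S] in
/-- Separate a point of a finite subset of a fibre of a separated map from the other points. -/
theorem exists_sep {q : Q → S} (hq : IsSeparatedMap q) {s : S} {t : Q} (ht : q t = s) {N : Set Q}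
    (hN : N.Finite) (hNs : ∀ x ∈ N, q x = s) (htN : t ∉ N) :
    ∃ U U' : Set Q, IsOpen U ∧ IsOpen U' ∧ t ∈ U ∧ N ⊆ U' ∧ Disjoint U U' := by
  induction N, hN using Set.Finite.induction_on with
  | empty => exact ⟨Set.univ, ∅, isOpen_univ, isOpen_empty, trivial, le_rfl, Set.disjoint_empty _⟩
  | @insert a N ha hN ih =>
    obtain ⟨U, U', hU, hU', htU, hNU, hd⟩ := ih (fun x hx => hNs x (Set.mem_insert_of_mem _ hx))
      (fun h => htN (Set.mem_insert_of_mem _ h))
    obtain ⟨V, V', hV, hV', htV, haV, hd'⟩ := hq t a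
      (ht.trans (hNs a (Set.mem_insert _ _)).symm) (fun h => htN (h ▸ Set.mem_insert _ _))
    refine ⟨U ∩ V, U' ∪ V', hU.inter hV, hU'.union hV', ⟨htU, htV⟩, ?_, ?_⟩
    · rintro x (rfl | hx)
      · exact Or.inr haV
      · exact Or.inl (hNU hx)
    · rw [Set.disjoint_union_right]
      exact ⟨hd.mono_left Set.inter_subset_left, hd'.mono_left Set.inter_subset_right⟩

/-- An open subset of `Q` as an object of the classical site. -/
abbrev opn (W : Set Q) (hW : IsOpen W) : Cl Q := (Cl.self Q).restrictOpen W hW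

theorem eq_zero (F : Cl.Ab Q) {q : Q → S} (hqc : Continuous q) (hq : IsSeparatedMap q) {T : Set Q}
    (hT : IsClosed T) (hfin : FinOn q T)
    (hW : ∀ A : Cl Q, (∀ a, A.p a ∉ T) → ∀ x : Cl.sect F A, x = 0)
    (h0 : ∀ (V : Set S) (hV : IsOpen V) (x : Cl.sect F (opn (q ⁻¹' V) (hV.preimage hqc))), x = 0)
    (A : Cl Q) (x : Cl.sect F A) : x = 0 := by
  refine sect_ext F fun a => ?_
  by_cases haT : A.p a ∈ T
  swap
  · have hop : IsOpen (A.p ⁻¹' Tᶜ) := hT.isOpen_compl.preimage A.lh.continuous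
    refine ⟨A.restrictOpen (A.p ⁻¹' Tᶜ) hop, A.restrictOpenι _ _, ⟨a, haT⟩, rfl, ?_⟩
    rw [map_zero]
    exact hW (A.restrictOpen (A.p ⁻¹' Tᶜ) hop) (fun b : (A.p ⁻¹' Tᶜ : Set A.E) => b.2) _
  -- a chart at `a`
  obtain ⟨W, hWo, haW, hemb⟩ := exists_restrict (toSelf A) a
  set t := A.p a with ht
  have htoF : ∀ b : W, (A.restrictOpenι W hWo ≫ toSelf A).toFun b = A.p b.1 := fun b => rfl
  -- separate the points of the fibre
  obtain ⟨U, U', hU, hU', htU, hNU, hd⟩ := exists_sep hq (s := q t) (t := t) rfl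
    ((hfin.fin (q t)).subset (t := (q ⁻¹' {q t} ∩ T) \ {t}) Set.sdiff_subset)
    (fun x hx => hx.1.1) (fun h => h.2 rfl)
  set U₀ : Set Q := U ∩ Set.range (A.restrictOpenι W hWo ≫ toSelf A).toFun with hU₀
  have hU₀o : IsOpen U₀ := hU.inter hemb.isOpen_range
  have htU₀ : t ∈ U₀ := ⟨htU, ⟨a, haW⟩, rfl⟩
  set Z : Set Q := T \ (U₀ ∪ U') with hZ
  have hZc : IsClosed Z := hT.sdiff (hU₀o.union hU')
  have hqZ : IsClosed (q '' Z) := hfin.closed Z hZc Set.sdiff_subset
  set V : Set S := (q '' Z)ᶜ with hV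
  have hVo : IsOpen V := hqZ.isOpen_compl
  have hsV : q t ∈ V := by
    rintro ⟨z, hz, hzt⟩
    by_cases hzt' : z = t
    · exact hz.2 (Or.inl (hzt' ▸ htU₀))
    · exact hz.2 (Or.inr (hNU ⟨⟨hzt, hz.1⟩, hzt'⟩))
  have hsub : ∀ z ∈ q ⁻¹' V, z ∈ T → z ∈ U₀ ∪ U' := by
    intro z hz hzT
    by_contra h
    exact hz ⟨z, ⟨hzT, h⟩, rfl⟩
  set A' : Cl Q := opn (q ⁻¹' V) (hVo.preimage hqc) with hA'
  have hA'V : ∀ z : A'.E, A'.p z ∈ q ⁻¹' V := fun z => Subtype.property (p := fun x => x ∈ q ⁻¹' V) z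
  set O₁ : Set A'.E := A'.p ⁻¹' U₀ with hO₁
  set O₂ : Set A'.E := A'.p ⁻¹' (Tᶜ ∪ U') with hO₂
  have hO₁o : IsOpen O₁ := hU₀o.preimage A'.lh.continuous
  have hO₂o : IsOpen O₂ := (hT.isOpen_compl.union hU').preimage A'.lh.continuous
  have hcov : O₁ ∪ O₂ = Set.univ := by
    ext z
    simp only [Set.mem_union, Set.mem_univ, iff_true]
    by_cases hz : A'.p z ∈ T
    · rcases hsub _ (hA'V z) hz with h | h
      · exact Or.inl h
      · exact Or.inr (Or.inr h)
    · exact Or.inr (Or.inl hz)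
  -- the section `x` transported to `O₁`
  let σ : A'.restrictOpen O₁ hO₁o ⟶ A.restrictOpen W hWo :=
    { toFun := fun z => hemb.isEmbedding.toHomeomorph.symm ⟨A'.p z.1, z.2.2⟩
      continuous := hemb.isEmbedding.toHomeomorph.symm.continuous.comp
        ((A'.lh.continuous.comp continuous_subtype_val).subtype_mk _)
      over := fun z => by
        have h := congrArg Subtype.val
          (hemb.isEmbedding.toHomeomorph.apply_symm_apply ⟨A'.p z.1, z.2.2⟩)
        rw [IsEmbedding.toHomeomorph_apply_coe] at h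
        exact h }
  let y : Cl.sect F (A'.restrictOpen O₁ hO₁o) := res F (σ ≫ A.restrictOpenι W hWo) x
  obtain ⟨z, hz⟩ := exists_glue F O₁ O₂ hO₁o hcov hO₂o y (by
    intro B g hg1 hg2 x
    refine hW B (fun b hb => ?_) x
    have e : B.p b = A'.p (g.toFun b) := (g.over b).symm
    rcases hg2 b with h | h
    · exact h (e ▸ hb)
    · exact Set.disjoint_left.1 hd (hg1 b).1 h)
  have hz0 : z = 0 := h0 V hVo z
  have hy : y = 0 := by rw [← hz, hz0, map_zero]
  let t' : A'.E := (⟨t, hsV⟩ : (q ⁻¹' V : Set Q))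
  have ht' : t' ∈ O₁ := htU₀
  refine ⟨A'.restrictOpen O₁ hO₁o, σ ≫ A.restrictOpenι W hWo, (⟨t', ht'⟩ : O₁), ?_, ?_⟩
  · have h1 : σ.toFun (⟨t', ht'⟩ : O₁) = (⟨a, haW⟩ : W) := by
      apply hemb.injective
      exact σ.over (⟨t', ht'⟩ : O₁)
    change (σ.toFun (⟨t', ht'⟩ : O₁)).1 = a
    rw [h1]
  · rw [map_zero]
    exact hy

end Groth.Agent.An.H882.SuppFin
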