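import Groth.Agent.An.H891.CompSq
import Groth.Agent.An.H891.ClOpen
import Groth.Agent.An.H882.ConeZero
import Groth.Agent.An.H879.FiniteClosed
import Groth.Agent.An.H877.Sep

/-!
# The T-step for the comparison of direct images

* `bc_hcomp_iff_isIso`: horizontal pasting, the first base change after the second inverse image;
* `ClBC_of_open`: derived base change on classical sites for the square of `ℂ`-points of a cartesian square
  along an open immersion;
* `finOn`: the points of a closed subscheme finite over the base;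
* `tstep`: for `w : W ⟶ Q` open with complement `t : T ⟶ Q` finite over `S`, `p : Q ⟶ S` separated,
  `Comp j K` follows from `Comp` for the restriction of `j` to `W`, `Comp (j ≫ p) K` and
  `Comp p (Rj_* K)`.
-/

set_option autoImplicit false
set_option linter.unusedSectionVars false
open CategoryTheory CategoryTheory.Limits AlgebraicGeometry Opposite TopologicalSpace Topology

attribute [local instance] HasDerivedCategory.standard

noncomputable section
namespace Groth.Agent.An.H882.TStep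

open _root_.An
open Groth.Agent.Etrest.RDer3 Groth.Agent.Etrest.RDer4 Groth.Agent.Etrest.RDer5
  Groth.Agent.Etrest.DEtPush Groth.Agent.Etrest.DEtMate Groth.Agent.Sga4h.RPair
  Groth.Agent.An.H884.ClBC Groth.Agent.An.H891.Geom Groth.Agent.An.H891.ClSq
  Groth.Agent.An.H891.CompSq Groth.Agent.An.H891.ClOpen
  Groth.Agent.An.H882.SuppFin Groth.Agent.An.H882.ConeZero Groth.Agent.EtpbcB

section hcomp

universe v₁ v₂ v₃ v₄ v₅ v₆ u₁ u₂ u₃ u₄ u₅ u₆

variable {A : Type u₁} [Category.{v₁} A] [Abelian A] {B : Type u₂} [Category.{v₂} B] [Abelian B]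
  {A' : Type u₃} [Category.{v₃} A'] [Abelian A'] {B' : Type u₄} [Category.{v₄} B'] [Abelian B']
  {A'' : Type u₅} [Category.{v₅} A''] [Abelian A''] {B'' : Type u₆} [Category.{v₆} B''] [Abelian B'']
  {f : GM A B} {g : GM B' B} {f' : GM A' B'} {g' : GM A' A}
  {h : GM B'' B'} {h' : GM A'' A'} {f'' : GM A'' B''} {gh : GM B'' B} {gh' : GM A'' A}
  {α : g'.R ⋙ f.R ≅ f'.R ⋙ g.R} {β : h'.R ⋙ f'.R ≅ f''.R ⋙ h.R} {γ : gh'.R ⋙ f.R ≅ f''.R ⋙ gh.R}
  {c : h.R ⋙ g.R ≅ gh.R} {c' : h'.R ⋙ g'.R ≅ gh'.R}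

/-- If base change along `h` holds for `g'^* K` then base change along `g ∘ h` is equivalent to
`h^*(base change along g)` being an isomorphism. -/
theorem bc_hcomp_iff_isIso [HasKInj A] [HasKInj A'] (H : HCoh α β γ c c')
    {K : DerivedCategory A} (h₂ : BC β (g'.LD.obj K)) :
    BC γ K ↔ IsIso (h.LD.map ((bcD (bc0 α)).app K)) := by
  have hmate : bc0 α = mate f.adj f'.adj (cmpOf α).hom := bcNat_eq_mate_generic _ _ _ _ _
  rw [← bc_hcomp_iff H K, hmate, bcD_mate]
  set u := (mate (dAdj f.adj) (dAdj f'.adj) (cD (cmpOf α).hom)).app K with hu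
  have h2 : (dsq α).bc ((dAdj f.adj).counit.app K) =
      f'.LD.map u ≫ (dAdj f'.adj).counit.app (g'.LD.obj K) :=
    (mate_counit (dAdj f.adj) (dAdj f'.adj) (cD (cmpOf α).hom) K).symm
  have h3 : IsUniv f''.LD ((dsq β).bc ((dAdj f'.adj).counit.app (g'.LD.obj K))) :=
    h₂.isUniv (f'.isUniv_RD _)
  have h4 : ((dsq α).hcomp (dsq β)).bc ((dAdj f.adj).counit.app K) =
      f''.LD.map (h.LD.map u) ≫ (dsq β).bc ((dAdj f'.adj).counit.app (g'.LD.obj K)) := by
    rw [Sq.hcomp_bc, h2]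
    have h5 := Sq.bc_naturality (s := dsq β) u (𝟙 _)
      (ε := f'.LD.map u ≫ (dAdj f'.adj).counit.app (g'.LD.obj K))
      (ε₁ := (dAdj f'.adj).counit.app (g'.LD.obj K)) (Category.comp_id _).symm
    rw [h5, CategoryTheory.Functor.map_id, Category.comp_id]
  rw [h3.isIso_iff, ← h4]
  constructor
  · intro h
    exact h.isUniv (f.isUniv_RD K)
  · intro h
    exact ⟨_, _, f.isUniv_RD K, h⟩

end hcomp

section sq

variable {X Y X' Y' : Scheme.{0}} [X.Over SC] [Y.Over SC] [X'.Over SC] [Y'.Over SC]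
  [LocallyOfFiniteType (X ↘ SC)] [LocallyOfFiniteType (Y ↘ SC)]
  [LocallyOfFiniteType (X' ↘ SC)] [LocallyOfFiniteType (Y' ↘ SC)]
  {f : X ⟶ Y} {g : Y' ⟶ Y} {f' : X' ⟶ Y'} {g' : X' ⟶ X}
  [f.IsOver SC] [g.IsOver SC] [f'.IsOver SC] [g'.IsOver SC]

/-- If the diagonal of the cube and the analytic square satisfy base change, then the restriction of
the comparison of `f` along `g` is an isomorphism. -/
theorem diagBC_iff (w : g' ≫ f = f' ≫ g) {K : DCoh.DEt X}
    (h₂ : ClBC (mapC_sq w) ((epsD X).obj K)) :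
    DiagBC w K ↔ IsIso ((clPullD (An.Pts.mapC g)).map ((bet f).app K)) :=
  bc_hcomp_iff_isIso (hcoh_an w) h₂

omit [LocallyOfFiniteType (X ↘ SC)] [LocallyOfFiniteType (Y ↘ SC)]
  [LocallyOfFiniteType (X' ↘ SC)] [LocallyOfFiniteType (Y' ↘ SC)] in
theorem isOpenEmbedding_mapC [IsOpenImmersion g] : IsOpenEmbedding (An.Pts.mapC g) :=
  Groth.Agent.An.H871.Imm.isOpenEmbedding_map g

omit [LocallyOfFiniteType (X ↘ SC)] [LocallyOfFiniteType (Y ↘ SC)]
  [LocallyOfFiniteType (X' ↘ SC)] [LocallyOfFiniteType (Y' ↘ SC)] in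
theorem mem_range_of_isPullback (h : IsPullback g' f' f g) (x : An.Pts X)
    (hx : An.Pts.mapC f x ∈ Set.range (An.Pts.mapC g)) : x ∈ Set.range (An.Pts.mapC g') := by
  obtain ⟨y, hy⟩ := hx
  have hy' : y.1 ≫ g = x.1 ≫ f := congrArg Subtype.val hy
  refine ⟨⟨h.lift x.1 y.1 hy'.symm, ?_⟩, Subtype.ext (h.lift_fst _ _ _)⟩
  rw [← comp_over g' SC, ← Category.assoc, h.lift_fst, x.2]

/-- Derived base change on the classical sites along an open immersion. -/
theorem clBC_of_isOpenImmersion (h : IsPullback g' f' f g) [IsOpenImmersion g] (K : DCl (An.Pts X)) :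
    ClBC (mapC_sq h.w) K := by
  have : IsOpenImmersion g' :=
    MorphismProperty.of_isPullback (P := @IsOpenImmersion) h.flip inferInstance
  exact clBC_of_isOpenEmbedding _ isOpenEmbedding_mapC isOpenEmbedding_mapC
    (mem_range_of_isPullback h) K

/-- Restriction of the target to an open. -/
theorem Comp.restrict (h : IsPullback g' f' f g) [IsOpenImmersion g] {K : DCoh.DEt X}
    (hK : Comp f K) : Comp f' ((pullD g').obj K) :=
  Comp.base_change h.w hK (Groth.Agent.Sga4h.GSq.bc_of_etale h K) (clBC_of_isOpenImmersion h _)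

/-- The restriction of the comparison map to an open of the target. -/
theorem isIso_clPullD_bet (h : IsPullback g' f' f g) [IsOpenImmersion g] {K : DCoh.DEt X}
    (hK : Comp f' ((pullD g').obj K)) :
    IsIso ((clPullD (An.Pts.mapC g)).map ((bet f).app K)) :=
  (diagBC_iff h.w (clBC_of_isOpenImmersion h _)).1
    (DiagBC.of_et (Groth.Agent.Sga4h.GSq.bc_of_etale h K) hK)

end sq

section fin

variable {Q S T W : Scheme.{0}} [Q.Over SC] [S.Over SC] [T.Over SC] [W.Over SC]

/-- The complement of an open whose complement is finite over the base. -/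
theorem finOn (p : Q ⟶ S) [p.IsOver SC] (w : W ⟶ Q) [w.IsOver SC] [IsOpenImmersion w]
    (t : T ⟶ Q) [t.IsOver SC] [IsClosedImmersion t] (hwt : Set.range w = (Set.range t)ᶜ)
    (hfin : IsFinite (t ≫ p)) [(t ≫ p).IsOver SC] :
    FinOn (An.Pts.mapC p) (Set.range (An.Pts.mapC w))ᶜ := by
  have h1 : (Set.range (An.Pts.mapC w))ᶜ = Set.range (An.Pts.map t) := by
    change (Set.range (An.Pts.map w))ᶜ = Set.range (An.Pts.map t)
    rw [Groth.Agent.An.H871.Imm.range_map_of_isOpenImmersion w,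
      Groth.Agent.An.H871.Imm.range_map_of_isClosedImmersion t, hwt, Set.preimage_compl, compl_compl]
  have h2 : ∀ x : An.Pts T, An.Pts.mapC p (An.Pts.map t x) = An.Pts.map (t ≫ p) x := fun x =>
    (An.Pts.map_comp t p x).symm
  constructor
  · intro Z hZ hZT
    have h3 : (An.Pts.mapC p) '' Z = An.Pts.map (t ≫ p) '' ((An.Pts.map t) ⁻¹' Z) := by
      ext s
      constructor
      · rintro ⟨z, hz, rfl⟩
        obtain ⟨x, rfl⟩ : z ∈ Set.range (An.Pts.map t) := h1 ▸ hZT hz
        exact ⟨x, hz, (h2 x).symm⟩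
      · rintro ⟨x, hx, rfl⟩
        exact ⟨_, hx, h2 x⟩
    rw [h3]
    exact Groth.Agent.An.H879.FiniteClosed.isClosedMap_map_of_isFinite (t ≫ p) _
      (hZ.preimage (An.Pts.mapC t).continuous)
  · intro s
    refine ((Groth.Agent.An.H879.FiniteClosed.finite_fibre_of_isFinite (t ≫ p) s).image
      (An.Pts.map t)).subset ?_
    rintro z ⟨hz1, hz2⟩
    obtain ⟨x, rfl⟩ : z ∈ Set.range (An.Pts.map t) := h1 ▸ hz2
    refine ⟨x, ?_, rfl⟩
    change An.Pts.map (t ≫ p) x = s
    rw [← h2]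
    exact hz1

end fin

section tstep

variable {V W Q T V' S : Scheme.{0}} [V.Over SC] [W.Over SC] [Q.Over SC] [T.Over SC] [V'.Over SC]
  [S.Over SC] [LocallyOfFiniteType (V ↘ SC)] [LocallyOfFiniteType (W ↘ SC)]
  [LocallyOfFiniteType (Q ↘ SC)] [LocallyOfFiniteType (V' ↘ SC)] [LocallyOfFiniteType (S ↘ SC)]

/-- **The T-step.** -/
theorem tstep (p : Q ⟶ S) [p.IsOver SC] [IsSeparated p] (w : W ⟶ Q) [w.IsOver SC]
    [IsOpenImmersion w] (t : T ⟶ Q) [t.IsOver SC] [IsClosedImmersion t]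
    (hwt : Set.range w = (Set.range t)ᶜ) (hfin : IsFinite (t ≫ p)) [(t ≫ p).IsOver SC]
    (j : V ⟶ Q) [j.IsOver SC] [(j ≫ p).IsOver SC] (j' : V' ⟶ W) [j'.IsOver SC] (w' : V' ⟶ V)
    [w'.IsOver SC] (sq : IsPullback w' j' j w) (K : DCoh.DEt V) (a : ℤ) [K.IsGE a]
    (h₁ : Comp j' ((pullD w').obj K)) (h₂ : Comp (j ≫ p) K) (h₃ : Comp p ((pushD j).obj K)) :
    Comp j K := by
  rw [Comp_iff]
  have hsep : IsSeparatedMap (An.Pts.mapC p) :=
    (Groth.Agent.An.H877.Sep.isSeparated_iff_isSeparatedMap p).1 inferInstance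
  have i1 : ((pushD j).obj K).IsGE a := TR_isGE (EtCoh.push j) K a
  have i2 : ((pushD j ⋙ epsD Q).obj K).IsGE a := gex (An.epsPull Q) ((pushD j).obj K) a i1
  have i3 : ((epsD V).obj K).IsGE a := gex (An.epsPull V) _ a ‹_›
  have i4 : ((epsD V ⋙ clPushD (An.Pts.mapC j)).obj K).IsGE a :=
    TR_isGE (clPush (An.Pts.mapC j)) ((epsD V).obj K) a
  exact isIso_of_fin (An.Pts.mapC w) isOpenEmbedding_mapC (An.Pts.mapC p) hsep
    (finOn p w t hwt hfin) ((bet j).app K) a (isIso_clPullD_bet sq h₁) ((comp_iff_isIso h₃).1 h₂)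

end tstep

end Groth.Agent.An.H882.TStep
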